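import Cfsg.Agent.InvCentAbelian.Centre
import Cfsg.Agent.Linear.SL2Sylow
import Cfsg.Agent.Linear.Basic
import Cfsg.Agent.Transfer.Abelian
import Cfsg.Agent.FrobComp.SylowStructure

/-!
# `G ≅ SL₂(F) × Z(G)`
-/

set_option autoImplicit false
set_option linter.unusedSectionVars false
set_option linter.style.haveILetI false

namespace CfsgLib.InvCentAbelian

open Subgroup
open scoped MatrixGroups

/-- A surjection onto `SL₂(F)`, `|F| ≥ 4` even, with central kernel of odd order splits. -/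
theorem splits_SL2 {G : Type*} [Group G] [Finite G] {F : Type} [Field F] [Fintype F] [CharP F 2]
    (h4 : 4 ≤ Fintype.card F) (φ : G →* SL(2, F)) (hφ : Function.Surjective φ)
    (hker : φ.ker ≤ Subgroup.center G) (hodd : Odd (Nat.card φ.ker)) :
    ∃ (A : Type) (_ : CommGroup A) (_ : Finite A), Odd (Nat.card A) ∧
      Nonempty (G ≃* SL(2, F) × A) := by
  classical
  haveI : Fact (Nat.Prime 2) := ⟨Nat.prime_two⟩
  obtain ⟨a, ha0, ha1⟩ : ∃ a : F, a ≠ 0 ∧ a ^ 2 ≠ 1 := by
    obtain ⟨a, -, ha⟩ := Finset.exists_mem_notMem_of_card_lt_card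
      (s := ({0, 1} : Finset F)) (t := Finset.univ)
      (lt_of_le_of_lt Finset.card_le_two (by rw [Finset.card_univ]; omega))
    simp only [Finset.mem_insert, Finset.mem_singleton, not_or] at ha
    refine ⟨a, ha.1, fun h => ha.2 ?_⟩
    have h1 : (a - 1) ^ 2 = 0 := by rw [CharTwo.sub_eq_add, CharTwo.add_sq, h, one_pow]; exact CharTwo.add_self_eq_zero 1
    exact sub_eq_zero.1 (pow_eq_zero_iff two_ne_zero |>.1 h1)
  have hmap : (commutator G).map φ = ⊤ := by
    rw [← Matrix.SL2.commutator_eq_top (F := F) ha0 ha1, commutator_def, commutator_def,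
      Subgroup.map_commutator, Subgroup.map_top_of_surjective φ hφ]
  have hinf : commutator G ⊓ φ.ker = ⊥ := by
    by_contra hne
    have hne1 : Nat.card ↥(commutator G ⊓ φ.ker) ≠ 1 := fun h1 => hne (Subgroup.card_eq_one.1 h1)
    obtain ⟨p, hp, hpdvd⟩ := Nat.exists_prime_and_dvd hne1
    haveI := Fact.mk hp
    have hp2 : p ≠ 2 := by
      rintro rfl
      exact (Nat.not_even_iff_odd.2 hodd) (even_iff_two_dvd.2
        (hpdvd.trans (Subgroup.card_dvd_of_le inf_le_right)))
    obtain ⟨z, hz⟩ := exists_prime_orderOf_dvd_card' (G := ↥(commutator G ⊓ φ.ker)) p hpdvd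
    have hz' : orderOf (z : G) = p := by rw [Subgroup.orderOf_coe]; exact hz
    have hzp : IsPGroup p (Subgroup.zpowers (z : G)) :=
      IsPGroup.of_card (n := 1) (by rw [Nat.card_zpowers, hz', pow_one])
    obtain ⟨P, hP⟩ := hzp.exists_le_sylow
    set ψ := φ.comp (P : Subgroup G).subtype with hψ
    haveI : IsCyclic ψ.range := Linear.isCyclic_of_isPGroup 2 hp2 hp2 _
      (P.isPGroup'.of_surjective ψ.rangeRestrict ψ.rangeRestrict_surjective)
    have hab : IsMulCommutative (P : Subgroup G) := by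
      refine ⟨⟨(ψ.rangeRestrict.isMulCommutative_of_isCyclic_of_ker_le_center (fun c hc => ?_)).is_comm.comm⟩⟩
      rw [MonoidHom.ker_rangeRestrict] at hc
      exact Subgroup.mem_center_iff.2 fun d =>
        Subtype.ext (Subgroup.mem_center_iff.1 (hker (show (c : G) ∈ φ.ker from hc)) d)
    have hmem : (z : G) ∈ (P : Subgroup G) ⊓ commutator G ⊓ Subgroup.center G :=
      ⟨⟨hP (Subgroup.mem_zpowers _), z.2.1⟩, hker z.2.2⟩
    rw [Transfer.inf_commutator_inf_center_eq_bot _ hab P.card_coprime_index] at hmem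
    rw [Subgroup.mem_bot.1 hmem, orderOf_one] at hz'
    exact hp.ne_one hz'.symm
  -- the product decomposition
  haveI : Fintype G := Fintype.ofFinite G
  obtain ⟨n, ⟨e₀⟩⟩ := Finite.exists_equiv_fin φ.ker
  let e : φ.ker ≃ {i : Fin n // True} :=
    e₀.trans (Equiv.subtypeUnivEquiv (fun _ => trivial)).symm
  letI : CommGroup φ.ker :=
    { (inferInstance : Group φ.ker) with
      mul_comm := fun a b => Subtype.ext (Subgroup.mem_center_iff.1 (hker b.2) a) }
  letI : CommGroup {i : Fin n // True} := e.symm.commGroup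
  refine ⟨{i : Fin n // True}, inferInstance, inferInstance, by rwa [Nat.card_congr e] at hodd, ?_⟩
  have hex : ∀ g : G, ∃ c ∈ commutator G, c⁻¹ * g ∈ φ.ker := fun g => by
    obtain ⟨c, hc, e1⟩ : φ g ∈ (commutator G).map φ := hmap ▸ Subgroup.mem_top _
    exact ⟨c, hc, by rw [MonoidHom.mem_ker, map_mul, map_inv, e1, inv_mul_cancel]⟩
  have huniq : ∀ {c d : G}, c ∈ commutator G → d ∈ commutator G → c⁻¹ * d ∈ φ.ker → c = d :=
    fun {c d} hc hd hk => inv_mul_eq_one.1 (Subgroup.mem_bot.1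
      (hinf ▸ Subgroup.mem_inf.2 ⟨mul_mem (inv_mem hc) hd, hk⟩))
  choose c hc hck using hex
  have hcmul : ∀ g k : G, c (g * k) = c g * c k := fun g k => by
    refine huniq (hc _) (mul_mem (hc g) (hc k)) ?_
    rw [show (c (g * k))⁻¹ * (c g * c k)
      = (c (g * k))⁻¹ * (g * k) * (k⁻¹ * (g⁻¹ * c g) * c k) by group]
    refine mul_mem (hck _) ?_
    have h1 : g⁻¹ * c g ∈ φ.ker := by simpa using inv_mem (hck g)
    rw [show k⁻¹ * (g⁻¹ * c g) * c k = k⁻¹ * ((g⁻¹ * c g) * k) * (k⁻¹ * c k) by group,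
      ← Subgroup.mem_center_iff.1 (hker h1) k, inv_mul_cancel_left]
    exact mul_mem h1 (by simpa using inv_mem (hck k))
  let π : G →* φ.ker := MonoidHom.mk' (fun g => ⟨(c g)⁻¹ * g, hck g⟩) fun g k => Subtype.ext (by
    show (c (g * k))⁻¹ * (g * k) = (c g)⁻¹ * g * ((c k)⁻¹ * k)
    rw [hcmul, mul_inv_rev, show (c k)⁻¹ * (c g)⁻¹ * (g * k) = (c k)⁻¹ * ((c g)⁻¹ * g) * k by group,
      Subgroup.mem_center_iff.1 (hker (hck g)) (c k)⁻¹]
    group)
  let Φ : G →* SL(2, F) × φ.ker := φ.prod π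
  have hΦ : Function.Bijective Φ := by
    refine ⟨(injective_iff_map_eq_one Φ).2 fun g hg => ?_, ?_⟩
    · obtain ⟨h1, h2⟩ : φ g = 1 ∧ π g = 1 := Prod.ext_iff.1 hg
      have h3 : (c g)⁻¹ * g = 1 := congrArg Subtype.val h2
      have h4 : g ∈ commutator G := (inv_mul_eq_one.1 h3) ▸ hc g
      exact Subgroup.mem_bot.1 (hinf ▸ Subgroup.mem_inf.2 ⟨h4, h1⟩)
    · rintro ⟨m, k⟩
      obtain ⟨d, hd, rfl⟩ : m ∈ (commutator G).map φ := hmap ▸ Subgroup.mem_top _
      have hk : φ (k : G) = 1 := k.2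
      refine ⟨d * (k : G), Prod.ext (show φ (d * (k : G)) = φ d by rw [map_mul, hk, mul_one]) ?_⟩
      refine Subtype.ext (show (c (d * (k : G)))⁻¹ * (d * (k : G)) = (k : G) from ?_)
      have h5 : c (d * (k : G)) = d := huniq (hc _) hd (by
        have h6 := mul_mem (hck (d * (k : G))) (inv_mem k.2)
        simpa [mul_assoc] using h6)
      rw [h5, inv_mul_cancel_left]
  exact ⟨(MulEquiv.ofBijective Φ hΦ).trans (MulEquiv.prodCongr (MulEquiv.refl _) e.symm.mulEquiv.symm)⟩

/-- The classification in the case of a non-cyclic, non-normal Sylow `2`-subgroup. -/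
theorem Setup.classify {G : Type*} [Group G] [Finite G] {Ω : Type*} [MulAction G Ω]
    (h : Setup G Ω) :
    ∃ (F : Type) (_ : Field F) (_ : Fintype F) (A : Type) (_ : CommGroup A) (_ : Finite A),
      CharP F 2 ∧ Odd (Nat.card A) ∧ Nonempty (G ≃* SL(2, F) × A) := by
  classical
  have hodd := odd_center h
  letI := quotAction h (Subgroup.center G) le_rfl
  have hSQ := Setup.quotient h (Subgroup.center G) le_rfl hodd
  haveI := h.nontriv
  obtain ⟨x, y, hxy⟩ := exists_pair_ne Ω
  obtain ⟨F, fF, fFin, hcard, ⟨e⟩⟩ := exists_equiv_PSL2 hSQ (TI_quotient_center h) x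
  have heven : Odd (Fintype.card F - 1) := by
    rw [hcard, Nat.add_sub_cancel]
    obtain ⟨k, hk⟩ := dvd_card_sub_one hSQ (TI_quotient_center h) x
    -- the number of involutions at a point is odd
    have h1 := card_cA hSQ (TI_quotient_center h) x
    have h2 : IsPGroup 2 (cA (G ⧸ Subgroup.center G) x) := fun a => ⟨1, Subtype.ext (by
      rw [pow_one, Subgroup.coe_pow, sq]; exact sq_eq_one hSQ (TI_quotient_center h) a.2)⟩
    haveI : Fact (Nat.Prime 2) := ⟨Nat.prime_two⟩
    obtain ⟨n, hn⟩ := h2.exists_card_eq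
    rw [hn] at h1
    have h3 := hSQ.two_le x
    rcases n with _ | n
    · rw [pow_zero] at h1; omega
    · rw [pow_succ] at h1
      exact ⟨2 ^ n - 1, by omega⟩
  have h4 : 4 ≤ Fintype.card F := by
    have h3 := hSQ.two_le x
    obtain ⟨k, hk⟩ := heven
    omega
  haveI hchar : CharP F 2 := by
    obtain ⟨p, hp⟩ := CharP.exists F
    obtain ⟨n, hpp, hpn⟩ := FiniteField.card F p
    obtain ⟨k, hk⟩ := heven
    have h2 : 2 ∣ Fintype.card F := ⟨k + 1, by omega⟩
    rw [hpn] at h2
    obtain rfl : 2 = p :=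
      (Nat.prime_dvd_prime_iff_eq Nat.prime_two hpp).1 (Nat.prime_two.dvd_of_dvd_pow h2)
    exact hp
  have hbot : Subgroup.center SL(2, F) = ⊥ := by
    rw [← Subgroup.card_eq_one, Linear.card_center_SL, Fintype.card_fin]
    exact Nat.coprime_two_left.2 heven
  let e2 : SL(2, F) ≃* Matrix.ProjectiveSpecialLinearGroup (Fin 2) F :=
    MulEquiv.ofBijective (QuotientGroup.mk' (Subgroup.center SL(2, F)))
      ⟨(MonoidHom.ker_eq_bot_iff _).1 (by rw [QuotientGroup.ker_mk', hbot]),
        QuotientGroup.mk'_surjective _⟩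
  let φ : G →* SL(2, F) :=
    (e.trans e2.symm).toMonoidHom.comp (QuotientGroup.mk' (Subgroup.center G))
  have hker : φ.ker = Subgroup.center G := by
    ext g
    simp [φ, MonoidHom.mem_ker]
  obtain ⟨A, iA, fA, hA, hiso⟩ := splits_SL2 h4 φ
    ((e.trans e2.symm).surjective.comp (QuotientGroup.mk'_surjective _)) hker.le (by rwa [hker])
  exact ⟨F, fF, fFin, A, iA, fA, hchar, hA, hiso⟩

/-- A non-cyclic non-normal Sylow `2`-subgroup in a group with abelian involution centralizers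
gives the standing hypothesis. -/
theorem setup_of_sylow {G : Type*} [Group G] [Finite G]
    (hab : ∀ t : G, orderOf t = 2 → IsMulCommutative ↥(Subgroup.centralizer ({t} : Set G)))
    (S : Sylow 2 G) (hcyc : ¬ IsCyclic ↥(S : Subgroup G)) (hnorm : ¬ (S : Subgroup G).Normal) :
    Setup G (G ⧸ Subgroup.normalizer ((S : Subgroup G) : Set G)) := by
  classical
  haveI : Fact (Nat.Prime 2) := ⟨Nat.prime_two⟩
  set N := Subgroup.normalizer ((S : Subgroup G) : Set G) with hN
  obtain ⟨k, hk⟩ := S.isPGroup'.exists_card_eq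
  have hk0 : k ≠ 0 := fun h0 => hcyc (by
    rw [h0, pow_zero, Subgroup.card_eq_one] at hk
    rw [hk]; infer_instance)
  haveI : Nontrivial (S : Subgroup G) := (Finite.one_lt_card_iff_nontrivial).1 (by
    rw [hk]; exact one_lt_pow' (by norm_num) hk0)
  haveI := S.isPGroup'.center_nontrivial
  obtain ⟨z, hz⟩ := exists_prime_orderOf_dvd_card' (G := Subgroup.center (S : Subgroup G)) 2 (by
    obtain ⟨n, hn, hn'⟩ := (S.isPGroup'.to_subgroup
      (Subgroup.center (S : Subgroup G))).nontrivial_iff_card.1 inferInstance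
    exact hn' ▸ dvd_pow_self 2 hn.ne')
  have hzG : orderOf (((z : (S : Subgroup G)) : G)) = 2 := by
    rw [Subgroup.orderOf_coe, Subgroup.orderOf_coe, hz]
  have hle : ∀ c ∈ (S : Subgroup G),
      c ∈ Subgroup.centralizer ({((z : (S : Subgroup G)) : G)} : Set G) := fun c hc =>
    mem_centralizer_singleton_iff.2
      (congrArg Subtype.val (Subgroup.mem_center_iff.1 z.2 ⟨c, hc⟩))
  have hScomm : ∀ a ∈ (S : Subgroup G), ∀ b ∈ (S : Subgroup G), a * b = b * a := by
    intro a ha b hb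
    haveI := hab _ hzG
    exact congrArg Subtype.val (mul_comm'
      (⟨a, hle a ha⟩ : Subgroup.centralizer ({((z : (S : Subgroup G)) : G)} : Set G)) ⟨b, hle b hb⟩)
  have hSN : (S : Subgroup G) ≤ N := le_normalizer
  have hmemS : ∀ i : G, orderOf i = 2 → i ∈ N → i ∈ (S : Subgroup G) := fun i hi hiN =>
    SEmbed.invol_mem_of_mem_normalizer hi hiN
  have hC : ∀ i j : G, i ∈ (S : Subgroup G) → j ∈ (S : Subgroup G) → orderOf i = 2 →
      orderOf j = 2 → Subgroup.centralizer ({i} : Set G) ≤ Subgroup.centralizer {j} := by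
    intro i j hi hj hoi _ c hc
    haveI := hab i hoi
    exact mem_centralizer_singleton_iff.2 (congrArg Subtype.val (mul_comm'
      (⟨c, hc⟩ : Subgroup.centralizer ({i} : Set G))
      ⟨j, mem_centralizer_singleton_iff.2 (hScomm j hj i hi)⟩))
  have hfusion : ∀ i : G, orderOf i = 2 → i ∈ (S : Subgroup G) → ∀ g : G,
      g⁻¹ * i * g ∈ (S : Subgroup G) → g ∈ N := by
    intro i hi hiS g hg
    have hj : orderOf (g⁻¹ * i * g) = 2 := by rw [← hi]; simpa using Small.orderOf_conj_eq g⁻¹ i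
    rw [hN, mem_normalizer_iff]
    have key : ∀ {t : G}, orderOf t = 2 → t ∈ (S : Subgroup G) → ∀ c : G, c ∈ (S : Subgroup G) ↔
        (c * t = t * c ∧ ∃ n : ℕ, c ^ 2 ^ n = 1) := by
      intro t ht htS c
      refine ⟨fun hc => ⟨hScomm c hc t htS, k, ?_⟩, fun ⟨hc, n, hn⟩ => ?_⟩
      · rw [← hk]; exact congrArg Subtype.val (pow_card_eq_one' (x := (⟨c, hc⟩ : (S : Subgroup G))))
      · have hp : IsPGroup 2 (Subgroup.zpowers c) := fun ⟨d, hd⟩ => ⟨n, by
          obtain ⟨m, rfl⟩ := Subgroup.mem_zpowers_iff.1 hd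
          refine Subtype.ext ?_
          show (c ^ m) ^ 2 ^ n = 1
          rw [← zpow_natCast, ← zpow_mul, mul_comm, zpow_mul, zpow_natCast, hn, one_zpow]⟩
        have hcS : ∀ a ∈ (S : Subgroup G), a * c = c * a := fun a ha => by
          haveI := hab t ht
          exact congrArg Subtype.val (mul_comm'
            (⟨a, mem_centralizer_singleton_iff.2 (hScomm a ha t htS)⟩ :
              Subgroup.centralizer ({t} : Set G)) ⟨c, mem_centralizer_singleton_iff.2 hc⟩)
        have hnor : Subgroup.zpowers c ≤ N := by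
          rw [Subgroup.zpowers_le, hN, mem_normalizer_iff]
          intro a
          refine ⟨fun ha => ?_, fun ha => ?_⟩
          · rwa [← hcS a ha, mul_inv_cancel_right]
          · have h1 := hcS _ ha
            rw [inv_mul_cancel_right] at h1
            have h2 : a = c * a * c⁻¹ := mul_left_cancel h1
            rwa [h2]
        exact (S.is_maximal' (hp.to_sup_of_normal_right' S.isPGroup' hnor) le_sup_right).le
          (mem_sup_left (Subgroup.mem_zpowers c))
    intro a
    rw [key hj hg, key hi hiS]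
    constructor <;> rintro ⟨hc, n, hn⟩
    · refine ⟨?_, n, by rw [conj_pow, hn, mul_one, mul_inv_cancel]⟩
      calc g * a * g⁻¹ * i = g * (a * (g⁻¹ * i * g)) * g⁻¹ := by group
        _ = g * (g⁻¹ * i * g * a) * g⁻¹ := by rw [hc]
        _ = i * (g * a * g⁻¹) := by group
    · refine ⟨?_, n, ?_⟩
      · calc a * (g⁻¹ * i * g) = g⁻¹ * (g * a * g⁻¹ * i) * g := by group
          _ = g⁻¹ * (i * (g * a * g⁻¹)) * g := by rw [hc]
          _ = g⁻¹ * i * g * a := by group
      · rw [conj_pow, mul_inv_eq_one, mul_eq_left] at hn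
        exact hn
  have hne : N ≠ ⊤ := fun he => hnorm (Subgroup.normalizer_eq_top_iff.1 he)
  have hevenN : Even (Nat.card N) := by
    rw [even_iff_two_dvd, ← hzG]
    exact Subgroup.orderOf_dvd_natCard _ (hSN (z : (S : Subgroup G)).2)
  have hSE : Cfsg.IsStronglyEmbedded N := by
    rw [Small.isStronglyEmbedded_iff hne hevenN]
    exact fun i hi ho g hg => hfusion i ho (hmemS i ho hi) g
      (hmemS _ (by rw [← ho]; simpa using Small.orderOf_conj_eq g⁻¹ i) hg)
  have huf := SEmbed.uniqueFix hSE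
  have hfixS : ∀ {i g : G}, orderOf i = 2 → i • (g : G ⧸ N) = (g : G ⧸ N) →
      g⁻¹ * i * g ∈ (S : Subgroup G) := fun {i g} hi hx =>
    hmemS _ (by rw [← hi]; simpa using Small.orderOf_conj_eq g⁻¹ i) ((SEmbed.smul_mk_eq_iff N i g).1 hx)
  refine ⟨huf, SEmbed.nontrivial_cosets hSE, hab, fun i j hi hj x hx hy => ?_, fun x => ?_⟩
  · obtain ⟨g, rfl⟩ := QuotientGroup.mk_surjective x
    have h1 := hScomm _ (hfixS hi hx) _ (hfixS hj hy)
    show i * j = j * i
    calc i * j = g * ((g⁻¹ * i * g) * (g⁻¹ * j * g)) * g⁻¹ := by group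
      _ = g * ((g⁻¹ * j * g) * (g⁻¹ * i * g)) * g⁻¹ := by rw [h1]
      _ = j * i := by group
  · rw [SEmbed.card_invMap_self huf x ((1 : G) : G ⧸ N), SEmbed.invMap_one]
    by_contra hlt
    push Not at hlt
    refine hcyc (FrobComp.isCyclic_of_uniqueOrderP S.isPGroup' (fun a b ha hb ha1 => ?_)
      (Or.inl fun a b => Subtype.ext (hScomm a a.2 b b.2)))
    by_cases hb1 : b = 1
    · rw [hb1]; exact one_mem _
    have hmem : ∀ c : (S : Subgroup G), c ^ 2 = 1 → c ≠ 1 →
        (c : G) ∈ {t : G | orderOf t = 2 ∧ t ∈ N} := fun c hc hc1 =>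
      ⟨by rw [Subgroup.orderOf_coe]; exact orderOf_eq_prime hc hc1, hSN c.2⟩
    haveI : Subsingleton ↥{t : G | orderOf t = 2 ∧ t ∈ N} :=
      Finite.card_le_one_iff_subsingleton.1 (by omega)
    have hh : b = a := by
      have h1 := congrArg Subtype.val (Subsingleton.elim
        (⟨_, hmem b hb hb1⟩ : ↥{t : G | orderOf t = 2 ∧ t ∈ N}) ⟨_, hmem a ha ha1⟩)
      exact Subtype.ext h1
    rw [hh]
    exact Subgroup.mem_zpowers a

end CfsgLib.InvCentAbelian
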