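import Mathlib.GroupTheory.Index
import Mathlib.Tactic.Group
import Mathlib.SetTheory.Cardinal.Finite

/-!
# Orbit-stabilizer for a subgroup acting by conjugation
-/

set_option autoImplicit false

namespace CfsgLib.InvCentAbelian

open Subgroup

/-- A subgroup transitive by conjugation on a set has order the product of the sizes of the set
and of a centralizer. -/
theorem card_eq_mul_of_transitive {G : Type*} [Group G] [Finite G] (D : Subgroup G) {X : Set G}
    {s : G} (hs : s ∈ X) (hinv : ∀ d ∈ D, d * s * d⁻¹ ∈ X)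
    (htr : ∀ t ∈ X, ∃ d ∈ D, d * s * d⁻¹ = t) :
    Nat.card D = Nat.card X * Nat.card ↥(D ⊓ Subgroup.centralizer ({s} : Set G)) := by
  classical
  choose c hc hc' using fun t : X => htr t.1 t.2
  let f : X × ↥(D ⊓ Subgroup.centralizer ({s} : Set G)) → D := fun p =>
    ⟨c p.1 * (p.2 : G), mul_mem (hc p.1) p.2.2.1⟩
  have key : ∀ p, ((f p : D) : G) * s * ((f p : D) : G)⁻¹ = (p.1 : G) := by
    rintro ⟨t, k, hkD, hk⟩
    have hk' : k * s * k⁻¹ = s :=
      mul_inv_eq_iff_eq_mul.2 (mem_centralizer_singleton_iff.1 hk)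
    show c t * k * s * (c t * k)⁻¹ = (t : G)
    rw [show c t * k * s * (c t * k)⁻¹ = c t * (k * s * k⁻¹) * (c t)⁻¹ by group, hk', hc']
  have hf : Function.Bijective f := by
    refine ⟨fun p q e => ?_, fun d => ?_⟩
    · have h1 : p.1 = q.1 := Subtype.ext (by rw [← key p, ← key q, e])
      refine Prod.ext h1 (Subtype.ext ?_)
      have h2 : c p.1 * (p.2 : G) = c q.1 * (q.2 : G) := congrArg Subtype.val e
      rw [h1] at h2
      exact mul_left_cancel h2
    · let t : X := ⟨(d : G) * s * (d : G)⁻¹, hinv d d.2⟩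
      have hk : (c t)⁻¹ * (d : G) ∈ D ⊓ Subgroup.centralizer ({s} : Set G) := by
        refine Subgroup.mem_inf.2 ⟨mul_mem (inv_mem (hc t)) d.2, mem_centralizer_singleton_iff.2
          (mul_inv_eq_iff_eq_mul.1 ?_)⟩
        rw [show (c t)⁻¹ * (d : G) * s * ((c t)⁻¹ * (d : G))⁻¹
          = (c t)⁻¹ * ((d : G) * s * (d : G)⁻¹) * c t by group]
        have h1 : c t * s * (c t)⁻¹ = (d : G) * s * (d : G)⁻¹ := hc' t
        rw [← h1]
        group
      exact ⟨(t, ⟨_, hk⟩), Subtype.ext (mul_inv_cancel_left (c t) (d : G))⟩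
  rw [← Nat.card_eq_of_bijective f hf, Nat.card_prod]

end CfsgLib.InvCentAbelian
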