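import Cfsg.Agent.SEmbed.Cosets

/-!
# Transitive actions with abelian involution centralizers

Every involution fixes exactly one point, involution centralizers are abelian and involutions with
the same fixed point commute.  `cA G x` is then the common centralizer of the involutions fixing
`x`.
-/

set_option autoImplicit false

namespace CfsgLib.InvCentAbelian

open CfsgLib.SEmbed CfsgLib.Small Subgroup

variable (G : Type*) [Group G] {Ω : Type*} [MulAction G Ω]

/-- The centralizer of the involutions fixing a point. -/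
def cA (x : Ω) : Subgroup G := Subgroup.centralizer (invMap (G := G) x x)

/-- The standing hypothesis. -/
structure Setup (Ω : Type*) [MulAction G Ω] : Prop where
  uf : UniqueFix G Ω
  nontriv : Nontrivial Ω
  abel : ∀ i : G, orderOf i = 2 → IsMulCommutative (Subgroup.centralizer ({i} : Set G))
  commute_same : ∀ i j : G, orderOf i = 2 → orderOf j = 2 → ∀ x : Ω, i • x = x → j • x = x →
    Commute i j
  two_le : ∀ x : Ω, 2 ≤ Nat.card (invMap (G := G) x x)

variable {G}

theorem mem_cA_iff {x : Ω} {a : G} :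
    a ∈ cA G x ↔ ∀ i : G, orderOf i = 2 → i • x = x → i * a = a * i := by
  rw [cA, Subgroup.mem_centralizer_iff]
  exact ⟨fun h i hi hx => h i ⟨hi, hx⟩, fun h i hi => h i hi.1 hi.2⟩

/-- Conjugation carries `cA G x` to `cA G (g • x)`. -/
theorem conj_mem_cA {x : Ω} {a : G} (g : G) (ha : a ∈ cA G x) : g * a * g⁻¹ ∈ cA G (g • x) := by
  rw [mem_cA_iff] at ha ⊢
  intro i hi hx
  have h1 := ha (g⁻¹ * i * g) (by rw [← hi]; simpa using orderOf_conj_eq g⁻¹ i)
    (by rw [mul_smul, mul_smul, hx, inv_smul_smul])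
  calc i * (g * a * g⁻¹) = g * ((g⁻¹ * i * g) * a) * g⁻¹ := by group
    _ = g * (a * (g⁻¹ * i * g)) * g⁻¹ := by rw [h1]
    _ = g * a * g⁻¹ * i := by group

theorem conj_mem_cA_of_fix {x : Ω} {a g : G} (hg : g • x = x) (ha : a ∈ cA G x) :
    g * a * g⁻¹ ∈ cA G x := by
  simpa [hg] using conj_mem_cA g ha

theorem card_cA_smul (x : Ω) (g : G) : Nat.card (cA G (g • x)) = Nat.card (cA G x) := by
  refine (Nat.card_congr ((MulAut.conj g).toEquiv.subtypeEquiv fun a => ?_)).symm
  show a ∈ cA G x ↔ g * a * g⁻¹ ∈ cA G (g • x)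
  refine ⟨conj_mem_cA g, fun h => ?_⟩
  simpa [mul_assoc] using conj_mem_cA g⁻¹ h

variable (h : Setup G Ω)
include h

theorem exists_inv (x : Ω) : ∃ i : G, orderOf i = 2 ∧ i • x = x := h.uf.exists_inv x

theorem centralizer_eq {i : G} (hi : orderOf i = 2) {x : Ω} (hx : i • x = x) :
    Subgroup.centralizer ({i} : Set G) = cA G x := by
  refine le_antisymm (fun c hc => mem_cA_iff.2 fun j hj hjx => ?_) fun c hc => ?_
  · haveI := h.abel i hi
    have hjm : j ∈ Subgroup.centralizer ({i} : Set G) :=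
      mem_centralizer_singleton_iff.2 (h.commute_same j i hj hi x hjx hx).eq
    exact congrArg Subtype.val (mul_comm' (⟨j, hjm⟩ : Subgroup.centralizer ({i} : Set G)) ⟨c, hc⟩)
  · exact mem_centralizer_singleton_iff.2 ((mem_cA_iff.1 hc) i hi hx).symm

theorem cA_comm {x : Ω} {a b : G} (ha : a ∈ cA G x) (hb : b ∈ cA G x) : a * b = b * a := by
  obtain ⟨i, hi, hx⟩ := exists_inv h x
  rw [← centralizer_eq h hi hx] at ha hb
  haveI := h.abel i hi
  exact congrArg Subtype.val (mul_comm' (⟨a, ha⟩ : Subgroup.centralizer ({i} : Set G)) ⟨b, hb⟩)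

theorem cA_fix {x : Ω} {a : G} (ha : a ∈ cA G x) [Finite G] : a • x = x := by
  obtain ⟨i, hi, hx⟩ := exists_inv h x
  exact commute_fix h.uf hi ((mem_cA_iff.1 ha) i hi hx).symm hx

theorem invol_mem {x : Ω} {i : G} (hi : orderOf i = 2) (hx : i • x = x) : i ∈ cA G x :=
  mem_cA_iff.2 fun j hj hjx => (h.commute_same j i hj hi x hjx hx).eq

/-- An element commuting with an involution lies in the corresponding `cA`. -/
theorem mem_cA_of_commute {x : Ω} {i a : G} (hi : orderOf i = 2) (hx : i • x = x)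
    (hc : Commute a i) : a ∈ cA G x := by
  rw [← centralizer_eq h hi hx]
  exact mem_centralizer_singleton_iff.2 hc.eq

/-- An involution of `cA G x` fixes no point other than `x`. -/
theorem invol_fix {x y : Ω} {i : G} (hi : orderOf i = 2) (hm : i ∈ cA G x) [Finite G]
    (hy : i • y = y) : x = y :=
  h.uf.unique i hi x y (cA_fix h hm) hy

theorem odd_inf [Finite G] {x y : Ω} (hxy : x ≠ y) : Odd (Nat.card ↥(cA G x ⊓ cA G y)) := by
  by_contra hodd
  obtain ⟨i, hi, ho⟩ := exists_invol_mem (Nat.not_odd_iff_even.1 hodd)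
  exact hxy (invol_fix h ho hi.1 (cA_fix h hi.2))

theorem exists_swap [Finite G] {x y : Ω} (hxy : x ≠ y) : ∃ v : G, v ∈ invMap (G := G) x y := by
  obtain ⟨i, hi, hix⟩ := exists_inv h x
  obtain ⟨j, hj, hjy⟩ := exists_inv h y
  obtain ⟨v, hv, -⟩ := exists_interchange h.uf hi hj hix hjy hxy
  exact ⟨v, hv⟩

/-- Every element fixing `x` agrees with an element of the two point stabilizer modulo `cA`. -/
theorem exists_decomp [Finite G] {x y : Ω} (hxy : x ≠ y) {g : G} (hg : g • x = x) :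
    ∃ d ∈ pairStab G x y, g * d⁻¹ ∈ cA G x := by
  obtain ⟨s, hs, hsx⟩ := exists_inv h x
  have hg' : g⁻¹ • x = x := inv_smul_eq_iff.2 hg.symm
  have hgs : g⁻¹ * s * g ∈ invMap (G := G) x x :=
    ⟨by rw [← hs]; simpa using orderOf_conj_eq g⁻¹ s, by rw [mul_smul, mul_smul, hg, hsx, hg']⟩
  obtain ⟨d, hd, e⟩ := exists_conj_fix h.uf hxy hgs ⟨hs, hsx⟩
  refine ⟨d, hd, ?_⟩
  have hdx : d⁻¹ • x = x := inv_smul_eq_iff.2 (mem_pairStab.1 hd).1.symm
  have h1 : Commute (d * g⁻¹) s := mul_inv_eq_iff_eq_mul.1 (by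
    rw [← show d * (g⁻¹ * s * g) * d⁻¹ = d * g⁻¹ * s * (d * g⁻¹)⁻¹ by group, e])
  refine mem_cA_of_commute h hs hsx ?_
  simpa using h1.inv_left

end CfsgLib.InvCentAbelian
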