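import Cfsg.Agent.InvCentAbelian.Kernel
import Cfsg.Agent.SEmbed.ProjectiveLine

/-!
# In the trivial intersection case `cA` is elementary abelian and `G ≅ PSL₂(F)`
-/

set_option autoImplicit false
set_option linter.unusedSectionVars false
set_option linter.style.haveILetI false

namespace CfsgLib.InvCentAbelian

open CfsgLib.SEmbed CfsgLib.Small Subgroup

variable {G : Type*} [Group G] {Ω : Type*} [MulAction G Ω] [Finite G] (h : Setup G Ω)
  (hTI : TI G Ω)
include h hTI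

omit [Finite G] h hTI in
/-- Elements whose square is trivial form a subgroup of an abelian group. -/
theorem exists_omega {B : Subgroup G} (hB : ∀ a ∈ B, ∀ b ∈ B, a * b = b * a) :
    ∃ E : Subgroup G, E ≤ B ∧ ∀ a : G, a ∈ E ↔ a ∈ B ∧ a * a = 1 := by
  refine ⟨{ carrier := {a | a ∈ B ∧ a * a = 1}
            one_mem' := ⟨one_mem B, mul_one 1⟩
            mul_mem' := fun {a b} ha hb => ⟨mul_mem ha.1 hb.1, ?_⟩
            inv_mem' := fun {a} ha => ⟨inv_mem ha.1, by rw [← mul_inv_rev, ha.2, inv_one]⟩ },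
    fun a ha => ha.1, fun a => Iff.rfl⟩
  have hc : Commute b a := hB b hb.1 a ha.1
  rw [hc.mul_mul_mul_comm, ha.2, hb.2, one_mul]

omit hTI in
theorem card_omega {x : Ω} {E : Subgroup G} (hE : ∀ a : G, a ∈ E ↔ a ∈ cA G x ∧ a * a = 1) :
    Nat.card E = Nat.card (invMap (G := G) x x) + 1 := by
  classical
  have e : (invMap (G := G) x x) = (E : Set G) \ {1} := by
    ext a
    simp only [Set.mem_sdiff, SetLike.mem_coe, hE, Set.mem_singleton_iff]
    constructor
    · rintro ⟨ha, hx⟩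
      exact ⟨⟨invol_mem h ha hx, mul_self_of_orderOf_two ha⟩, ne_one_of_orderOf_two ha⟩
    · rintro ⟨⟨ha, h2⟩, hne⟩
      exact ⟨orderOf_eq_prime (by rw [sq, h2]) hne, cA_fix h ha⟩
  rw [e, Nat.card_coe_set_eq, Set.ncard_sdiff_singleton_of_mem (one_mem E), ← Nat.card_coe_set_eq]
  have h0 : 0 < Nat.card E := Nat.card_pos
  have : Nat.card (E : Set G) = Nat.card E := rfl
  omega

/-- The number of involutions at a point divides `|cA| - 1`. -/
theorem dvd_card_sub_one (x : Ω) :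
    Nat.card (invMap (G := G) x x) ∣ Nat.card (cA G x) - 1 := by
  haveI := h.nontriv
  obtain ⟨y, hy⟩ := exists_ne x
  set N := MulAction.stabilizer G x
  have hAN : cA G x ≤ N := fun a ha => cA_fix h ha
  haveI : ((cA G x).subgroupOf N).Normal :=
    (Subgroup.normal_subgroupOf_iff_le_normalizer hAN).2 (normalizer_cA h hTI x).ge
  have h1 := Coherence.index_dvd_card_sub_one ((cA G x).subgroupOf N) ((cA G x).subgroupOf N)
    fun n hn hn1 => by
      ext c
      rw [mem_centralizer_singleton_iff, Subgroup.mem_subgroupOf,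
        ← centralizer_cA h hTI (show (n : G) ∈ cA G x from hn) fun e => hn1 (Subtype.ext e),
        mem_centralizer_singleton_iff, Subtype.ext_iff, Subgroup.coe_mul, Subgroup.coe_mul]
  have hc : Nat.card ((cA G x).subgroupOf N) = Nat.card (cA G x) :=
    Nat.card_congr (Subgroup.subgroupOfEquivOfLe hAN).toEquiv
  have h2 := ((cA G x).subgroupOf N).index_mul_card
  rw [hc, card_stabilizer h hTI hy.symm, mul_comm (Nat.card (cA G x))] at h2
  rwa [hc, Nat.eq_of_mul_eq_mul_right Nat.card_pos h2] at h1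

theorem sq_eq_one {x : Ω} {b : G} (hb : b ∈ cA G x) : b * b = 1 := by
  by_contra hb2
  haveI := h.nontriv
  haveI := Fintype.ofFinite G
  obtain ⟨y, hy⟩ := exists_ne x
  obtain ⟨E, hEle, hE⟩ := exists_omega (B := cA G x) fun a ha b hb => cA_comm h ha hb
  set r := Nat.card (invMap (G := G) x x) with hr
  have hr2 : 2 ≤ r := h.two_le x
  have hcardE : Nat.card E = r + 1 := card_omega h hE
  have hbig : r * r + 2 * r + 1 ≤ Nat.card (cA G x) := by
    obtain ⟨m, hm⟩ := Subgroup.card_dvd_of_le hEle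
    rw [hcardE] at hm
    have hm1 : m ≠ 1 := by
      rintro rfl
      rw [mul_one] at hm
      have := Subgroup.eq_of_le_of_card_ge hEle (by rw [hm, hcardE])
      exact hb2 ((hE b).1 (this ▸ hb)).2
    have hm0 : m ≠ 0 := by
      rintro rfl
      rw [mul_zero] at hm
      exact Nat.card_pos.ne' hm
    obtain ⟨k, rfl⟩ : ∃ k, m = k + 1 := ⟨m - 1, by omega⟩
    have hd := dvd_card_sub_one h hTI x
    rw [← hr, hm, show (r + 1) * (k + 1) - 1 = r * (k + 1) + k by
      rw [Nat.add_mul, one_mul]; omega] at hd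
    have hk : r ≤ k :=
      Nat.le_of_dvd (by omega) ((Nat.dvd_add_right (dvd_mul_right r _)).1 hd)
    rw [hm]
    nlinarith
  obtain ⟨M, hMn, hMinv, hMA⟩ := exists_normal_of_sq_ne h hTI hb hb2 hbig
  have hall : ∀ i : G, orderOf i = 2 → i ∈ M := by
    intro i hi
    obtain ⟨j, hj, hjx⟩ := exists_inv h x
    obtain ⟨c, hc⟩ := isConj_iff.1 (isConj_invol h.uf hj hi)
    rw [← hc]
    exact hMn.conj_mem j (hMinv j hj hjx) c
  have hMN : ∀ m ∈ M, m • x = x → m ∈ cA G x := by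
    intro m hm hmx
    by_contra hmA
    obtain ⟨z, hz, hmz⟩ := exists_fix_other h hTI hmx hmA
    refine hMA fun a ha => ?_
    let f : cA G x → cA G x := fun a => ⟨(a : G) * (m * (a : G)⁻¹ * m⁻¹),
      mul_mem a.2 (conj_mem_cA_of_fix hmx (inv_mem a.2))⟩
    have hf : Function.Injective f := by
      intro a a' e
      have e' : (a : G) * m * (a : G)⁻¹ = (a' : G) * m * (a' : G)⁻¹ := by
        apply mul_right_cancel (b := m⁻¹)
        simpa [f, mul_assoc] using congrArg Subtype.val e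
      have hc : Commute ((a' : G)⁻¹ * a) m := by
        show (a' : G)⁻¹ * a * m = m * ((a' : G)⁻¹ * a)
        calc (a' : G)⁻¹ * a * m = (a' : G)⁻¹ * ((a : G) * m * (a : G)⁻¹) * a := by group
          _ = m * ((a' : G)⁻¹ * a) := by rw [e']; group
      by_contra hne
      refine hmA ?_
      rw [← centralizer_cA h hTI (mul_mem (inv_mem a'.2) a.2)
        fun e => hne (Subtype.ext (inv_mul_eq_one.1 e).symm)]
      exact mem_centralizer_singleton_iff.2 hc.symm.eq
    obtain ⟨b, hb⟩ := Finite.injective_iff_surjective.1 hf ⟨a, ha⟩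
    have h1 : (b : G) * (m * (b : G)⁻¹ * m⁻¹) = a := congrArg Subtype.val hb
    rw [← h1, show (b : G) * (m * (b : G)⁻¹ * m⁻¹) = ((b : G) * m * (b : G)⁻¹) * m⁻¹ by group]
    exact mul_mem (hMn.conj_mem m hm b) (inv_mem hm)
  have hord : ∀ {i : M}, orderOf i = 2 ↔ orderOf (i : G) = 2 := fun {i} => by
    rw [Subgroup.orderOf_coe]
  have hufM : UniqueFix M Ω :=
    ⟨fun i hi => h.uf.unique i (hord.1 hi), fun i hi => h.uf.exists_fix i (hord.1 hi),
      fun z => by
        obtain ⟨i, hi, hiz⟩ := exists_inv h z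
        exact ⟨⟨i, hall i hi⟩, hord.2 hi, hiz⟩,
      fun z w => by
        by_cases hzw : z = w
        · exact ⟨1, by rw [one_smul, hzw]⟩
        · obtain ⟨v, hv⟩ := exists_swap h hzw
          exact ⟨⟨v, hall v hv.1⟩, hv.2⟩⟩
  haveI : Nontrivial (invMap (G := G) x x) := (Finite.one_lt_card_iff_nontrivial).1 (by omega)
  obtain ⟨⟨s, hs⟩, ⟨t, ht⟩, hne⟩ := exists_pair_ne (invMap (G := G) x x)
  obtain ⟨d, hd, e⟩ := exists_conj_fix hufM hy.symm (s := (⟨s, hall s hs.1⟩ : M))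
    (t := ⟨t, hall t ht.1⟩) ⟨hord.2 hs.1, hs.2⟩ ⟨hord.2 ht.1, ht.2⟩
  obtain ⟨hdx, hdy⟩ := mem_pairStab.1 hd
  have hd1 : (d : G) = 1 :=
    cA_semiregular h hTI hy.symm (hMN d d.2 hdx) hdy
  refine hne (Subtype.ext ?_)
  have h1 : (d : G) * s * (d : G)⁻¹ = t := congrArg Subtype.val e
  simpa [hd1] using h1

theorem card_cA (x : Ω) : Nat.card (cA G x) = Nat.card (invMap (G := G) x x) + 1 :=
  card_omega h fun _ => ⟨fun ha => ⟨ha, sq_eq_one h hTI ha⟩, fun ha => ha.1⟩

theorem card_points_eq (x : Ω) : Nat.card Ω = Nat.card (invMap (G := G) x x) + 2 := by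
  rw [card_points h hTI x, card_cA h hTI x]

/-- An odd order subgroup of a point stabilizer transitive on its involutions fixes exactly one
other point. -/
theorem exists_unique_other {x : Ω} {F : Subgroup G} (hF : ∀ f ∈ F, f • x = x)
    (hodd : Odd (Nat.card F))
    (htr : ∀ s ∈ invMap (G := G) x x, ∀ t ∈ invMap (G := G) x x, ∃ f ∈ F, f * s * f⁻¹ = t) :
    ∃ y, x ≠ y ∧ (∀ f ∈ F, f • y = y) ∧ ∀ z, (∀ f ∈ F, f • z = z) → z = x ∨ z = y := by
  have hFA : ∀ f ∈ F, f ∈ cA G x → f = 1 := by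
    intro f hf hfA
    obtain ⟨k, hk⟩ := hodd.of_dvd_nat (Subgroup.orderOf_dvd_natCard F hf)
    have h1 := pow_orderOf_eq_one f
    rwa [hk, pow_succ, pow_mul, sq, sq_eq_one h hTI hfA, one_pow, one_mul] at h1
  haveI : Nontrivial (invMap (G := G) x x) :=
    (Finite.one_lt_card_iff_nontrivial).1 (by have := h.two_le x; omega)
  obtain ⟨⟨s, hs⟩, ⟨t, ht⟩, hne⟩ := exists_pair_ne (invMap (G := G) x x)
  obtain ⟨f₀, hf₀, e₀⟩ := htr s hs t ht
  have hf₀1 : f₀ ≠ 1 := fun e => hne (Subtype.ext (by simpa [e] using e₀))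
  obtain ⟨y, hy, hfy⟩ := exists_fix_other h hTI (hF f₀ hf₀) fun hm => hf₀1 (hFA f₀ hf₀ hm)
  refine ⟨y, hy, fun g hg => ?_, fun z hz => ?_⟩
  · -- `F` is abelian, being embedded in the point stabilizer modulo `cA`
    obtain ⟨d, hd, hdA⟩ := SEmbed.exists_conj_fix h.uf hy hs ht
    obtain ⟨a₁, ha₁, hm₁⟩ := exists_decomp h hy (hF f₀ hf₀)
    obtain ⟨a₂, ha₂, hm₂⟩ := exists_decomp h hy (hF g hg)
    have hact : ∀ {f e : G}, f * e⁻¹ ∈ cA G x → e ∈ pairStab G x y →
        ∀ i, orderOf i = 2 → i • x = x → f * i * f⁻¹ = e * i * e⁻¹ := by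
      intro f e hfe he i hi hix
      have hei : (e * i * e⁻¹) • x = x :=
        (pairStab_conj_invFix h he (v := i) ⟨hi, hix⟩).2
      have h1 := (mem_cA_iff.1 hfe) (e * i * e⁻¹) (by rw [orderOf_conj_eq, hi]) hei
      calc f * i * f⁻¹ = (f * e⁻¹) * (e * i * e⁻¹) * (f * e⁻¹)⁻¹ := by group
        _ = e * i * e⁻¹ := by rw [← h1]; group
    have hact2 : ∀ {f e : G}, f * e⁻¹ ∈ cA G x → e ∈ pairStab G x y → ∀ {i : G},
        orderOf i = 2 → i • x = x →
          orderOf (f * i * f⁻¹) = 2 ∧ (f * i * f⁻¹) • x = x := by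
      intro f e hfe he i hi hix
      rw [hact hfe he i hi hix]
      exact pairStab_conj_invFix h he (v := i) ⟨hi, hix⟩
    have hs1 := hact2 hm₁ ha₁ hs.1 hs.2
    have hs2 := hact2 hm₂ ha₂ hs.1 hs.2
    have hcomm : f₀ * (g * s * g⁻¹) * f₀⁻¹ = g * (f₀ * s * f₀⁻¹) * g⁻¹ := by
      rw [hact hm₁ ha₁ _ hs2.1 hs2.2, hact hm₂ ha₂ _ hs1.1 hs1.2, hact hm₂ ha₂ s hs.1 hs.2,
        hact hm₁ ha₁ s hs.1 hs.2,
        show a₁ * (a₂ * s * a₂⁻¹) * a₁⁻¹ = (a₁ * a₂) * s * (a₁ * a₂)⁻¹ by group,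
        (pairStab_comm h hTI hy ha₁ ha₂).eq]
      group
    have hmem : g⁻¹ * f₀⁻¹ * g * f₀ = 1 := by
      refine hFA _ (mul_mem (mul_mem (mul_mem (inv_mem hg) (inv_mem hf₀)) hg) hf₀)
        (mem_cA_of_commute h hs.1 hs.2 (mul_inv_eq_iff_eq_mul.1 ?_))
      calc g⁻¹ * f₀⁻¹ * g * f₀ * s * (g⁻¹ * f₀⁻¹ * g * f₀)⁻¹
          = g⁻¹ * f₀⁻¹ * (g * (f₀ * s * f₀⁻¹) * g⁻¹) * f₀ * g := by group
        _ = s := by rw [← hcomm]; group
    have hc : f₀ * g = g * f₀ := by
      calc f₀ * g = f₀ * g * (g⁻¹ * f₀⁻¹ * g * f₀) := by rw [hmem, mul_one]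
        _ = g * f₀ := by group
    by_contra hne'
    refine hf₀1 (eq_one_of_fix_three h hTI hy (z := g • y) (fun e => ?_) (Ne.symm hne')
      (mem_pairStab.2 ⟨hF f₀ hf₀, hfy⟩) ?_)
    · exact hy (smul_left_cancel g ((hF g hg).trans e))
    · rw [← mul_smul, hc, mul_smul, hfy]
  · by_contra hc
    push Not at hc
    exact hf₀1 (eq_one_of_fix_three h hTI hy (Ne.symm hc.1) (Ne.symm hc.2)
      (mem_pairStab.2 ⟨hF f₀ hf₀, hfy⟩) (hz f₀ hf₀))

/-- `G ≅ PSL₂(F)`. -/
theorem exists_equiv_PSL2 (x : Ω) :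
    ∃ (F : Type) (_ : Field F) (_ : Fintype F),
      Fintype.card F = Nat.card (invMap (G := G) x x) + 1 ∧
      Nonempty (G ≃* Matrix.ProjectiveSpecialLinearGroup (Fin 2) F) := by
  classical
  haveI := h.nontriv
  haveI : Fact (Nat.Prime 2) := ⟨Nat.prime_two⟩
  obtain ⟨y, hy⟩ := exists_ne x
  set A := cA G x with hA
  have hA2 : IsPGroup 2 A := fun a => ⟨1, Subtype.ext (by
    rw [pow_one, Subgroup.coe_pow, sq]; exact sq_eq_one h hTI a.2)⟩
  obtain ⟨P, hP⟩ := hA2.exists_le_sylow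
  obtain ⟨i, hi, hix⟩ := exists_inv h x
  have hcomm2 : ∀ c ∈ (P : Subgroup G), c • x = x := by
    intro c hc
    obtain ⟨k, hk⟩ := P.isPGroup'.exists_card_eq
    haveI : Nontrivial (P : Subgroup G) := ⟨⟨⟨i, hP (invol_mem h hi hix)⟩, 1,
      fun e => ne_one_of_orderOf_two hi (congrArg Subtype.val e)⟩⟩
    haveI := P.isPGroup'.center_nontrivial
    obtain ⟨z, hz⟩ := exists_prime_orderOf_dvd_card' (G := Subgroup.center (P : Subgroup G)) 2 (by
      obtain ⟨n, hn, hn'⟩ := (P.isPGroup'.to_subgroup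
        (Subgroup.center (P : Subgroup G))).nontrivial_iff_card.1 inferInstance
      exact hn' ▸ dvd_pow_self 2 hn.ne')
    have hzG : orderOf (((z : (P : Subgroup G)) : G)) = 2 := by
      rw [Subgroup.orderOf_coe, Subgroup.orderOf_coe, hz]
    have hzc : ∀ c ∈ (P : Subgroup G), Commute c ((z : (P : Subgroup G)) : G) := fun c hc =>
      congrArg Subtype.val (Subgroup.mem_center_iff.1 z.2 ⟨c, hc⟩)
    have hzx : ((z : (P : Subgroup G)) : G) • x = x :=
      commute_fix h.uf hi (hzc i (hP (invol_mem h hi hix))).symm hix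
    exact commute_fix h.uf hzG (hzc c hc) hzx
  have hPA : (P : Subgroup G) = A := by
    refine le_antisymm (fun c hc => ?_) hP
    by_contra hcA
    obtain ⟨z, hz, hcz⟩ := exists_fix_other h hTI (hcomm2 c hc) hcA
    have h1 := (odd_pairStab h.uf hz).of_dvd_nat
      (Subgroup.orderOf_dvd_natCard _ (mem_pairStab.2 ⟨hcomm2 c hc, hcz⟩))
    obtain ⟨n, hn⟩ := P.isPGroup' ⟨c, hc⟩
    have h2 : orderOf c ∣ 2 ^ n := orderOf_dvd_of_pow_eq_one (congrArg Subtype.val hn)
    obtain ⟨m, -, hm⟩ := (Nat.dvd_prime_pow Nat.prime_two).1 h2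
    rw [hm] at h1
    rcases Nat.eq_zero_or_pos m with rfl | hpos
    · rw [pow_zero, orderOf_eq_one_iff] at hm
      exact hcA (hm ▸ one_mem _)
    · exact (Nat.not_odd_iff_even.2 ((Nat.even_pow' hpos.ne').2 even_two)) h1
  have helem : ElemCentralizers P := by
    refine ⟨fun hcyc => ?_, fun hn => ?_, fun t ht => ⟨h.abel t ht, fun c hc => ?_⟩⟩
    · rw [hPA] at hcyc
      haveI := hcyc
      haveI := Fintype.ofFinite A
      have h1 := IsCyclic.card_pow_eq_one_le (α := A) (n := 2) two_pos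
      have h2 := card_cA h hTI x
      have h3 := h.two_le x
      have : (Finset.univ.filter fun a : A => a ^ 2 = 1) = Finset.univ := by
        ext a
        simp only [Finset.mem_filter, Finset.mem_univ, true_and, iff_true]
        exact Subtype.ext (by rw [Subgroup.coe_pow, sq]; exact sq_eq_one h hTI a.2)
      rw [this, Finset.card_univ, ← Nat.card_eq_fintype_card, hA] at h1
      omega
    · rw [hPA] at hn
      obtain ⟨v, hv⟩ := exists_swap h hy.symm
      refine ne_one_of_orderOf_two hi (eq_one_of_mem_two h hTI hy.symm (invol_mem h hi hix) ?_)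
      have h1 : v⁻¹ * i * v⁻¹⁻¹ ∈ cA G x := hn.conj_mem i (invol_mem h hi hix) v⁻¹
      have h2 := conj_mem_cA v h1
      rw [hv.2] at h2
      simpa [mul_assoc] using h2
    · obtain ⟨z, hz⟩ := h.uf.exists_fix t ht
      rw [centralizer_eq h ht hz] at hc
      rw [sq]
      exact sq_eq_one h hTI hc
  obtain ⟨F, fF, fFin, hcard, ⟨e⟩⟩ := SEmbed.exists_equiv_PSL2 helem
  refine ⟨F, fF, fFin, ?_, ⟨e⟩⟩
  rw [hcard, ← card_cA h hTI x]
  exact congrArg (fun K : Subgroup G => Nat.card K) hPA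

end CfsgLib.InvCentAbelian
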