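import Cfsg.Agent.InvCentAbelian.Quotient
import Cfsg.Agent.InvCentAbelian.Exponent

/-!
# Two `cA`'s meet in the centre

If `R` is a largest intersection not in the centre, `H = C(R)` is strongly embedded and `H/R` is
`PSL₂(q)`; an odd order subgroup `H ∩ H^u` is then transitive on `q + 1` points with point
stabilizer fixing exactly two of them, which is absurd.
-/

set_option autoImplicit false
set_option linter.unusedSectionVars false
set_option linter.style.haveILetI false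

namespace CfsgLib.InvCentAbelian

open CfsgLib.SEmbed CfsgLib.Small Subgroup

variable {G : Type*} [Group G] {Ω : Type*} [MulAction G Ω] [Finite G]

/-- Transitivity of an odd order group in which a point stabilizer fixes exactly two points. -/
theorem false_of_two_fixed {H : Type*} [Group H] [Finite H] {Φ : Type*} [MulAction H Φ]
    (E : Subgroup H) (hodd : Odd (Nat.card E)) {a b : Φ} (hab : a ≠ b)
    (htr : ∃ e ∈ E, e • a = b)
    (hfix : ∀ f ∈ E, f • a = a → f • b = b)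
    (hexact : ∀ c : Φ, (∀ f ∈ E, f • a = a → f • c = c) → c = a ∨ c = b) : False := by
  obtain ⟨e, he, heab⟩ := htr
  let T1 : Subgroup H := E ⊓ MulAction.stabilizer H a
  let T2 : Subgroup H := E ⊓ MulAction.stabilizer H b
  have hle : T1 ≤ T2 := fun f hf => ⟨hf.1, hfix f hf.1 hf.2⟩
  have hcard : Nat.card T2 ≤ Nat.card T1 := by
    refine Nat.card_le_card_of_injective
      (fun f : T2 => (⟨e⁻¹ * (f : H) * e,
        Subgroup.mem_inf.2 ⟨mul_mem (mul_mem (inv_mem he) f.2.1) he, ?_⟩⟩ : T1)) ?_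
    · show (e⁻¹ * (f : H) * e) • a = a
      rw [mul_smul, mul_smul, heab, f.2.2, inv_smul_eq_iff, heab]
    · exact fun f g e' => Subtype.ext
        (mul_left_cancel (mul_right_cancel (congrArg Subtype.val e')))
  have heq : T1 = T2 := Subgroup.eq_of_le_of_card_ge hle hcard
  have hfixeb : ∀ f ∈ E, f • a = a → f • e • b = e • b := by
    intro f hf hfa
    have h2 : e⁻¹ * f * e ∈ T1 := by
      have h3 : f ∈ T2 := hle ⟨hf, hfa⟩
      refine Subgroup.mem_inf.2 ⟨mul_mem (mul_mem (inv_mem he) hf) he, ?_⟩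
      show (e⁻¹ * f * e) • a = a
      rw [mul_smul, mul_smul, heab, h3.2, inv_smul_eq_iff, heab]
    have h4 := hfix _ h2.1 h2.2
    rwa [mul_smul, mul_smul, inv_smul_eq_iff] at h4
  have heb : e • b = a := by
    rcases hexact (e • b) hfixeb with h1 | h1
    · exact h1
    · exact absurd (smul_left_cancel e (h1.trans heab.symm)).symm hab
  obtain ⟨k, hk⟩ := hodd.of_dvd_nat (Subgroup.orderOf_dvd_natCard E he)
  have he2 : (e * e) ∈ MulAction.stabilizer H a := by
    show (e * e) • a = a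
    rw [mul_smul, heab, heb]
  have h1 : e = ((e * e) ^ k)⁻¹ := by
    have h2 := pow_orderOf_eq_one e
    rw [hk, pow_succ, pow_mul, sq] at h2
    exact (inv_eq_of_mul_eq_one_right h2).symm
  exact hab ((show e • a = a by rw [h1]; exact inv_mem (pow_mem he2 k)).symm.trans heab)

variable (h : Setup G Ω)
include h

theorem inf_le_center {x y : Ω} (hxy : x ≠ y) : cA G x ⊓ cA G y ≤ Subgroup.center G := by
  classical
  by_contra hnot
  haveI := finite_points h.uf
  haveI := Fintype.ofFinite Ω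
  obtain ⟨⟨a, b⟩, hab, hmax⟩ := Finset.exists_max_image
    (Finset.univ.filter fun p : Ω × Ω => p.1 ≠ p.2 ∧ ¬ cA G p.1 ⊓ cA G p.2 ≤ Subgroup.center G)
    (fun p => Nat.card ↥(cA G p.1 ⊓ cA G p.2))
    ⟨(x, y), Finset.mem_filter.2 ⟨Finset.mem_univ _, hxy, hnot⟩⟩
  obtain ⟨hne, hR⟩ := (Finset.mem_filter.1 hab).2
  dsimp only at hne hR hmax
  set R := cA G a ⊓ cA G b with hRdef
  set H := Subgroup.centralizer (R : Set G) with hH
  letI : MulAction H {z : Ω // R ≤ cA G z} := centAction R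
  have hsub : ∀ {z : Ω}, R ≤ cA G z → cA G z ≤ H := fun {z} hz g hg =>
    Subgroup.mem_centralizer_iff.2 fun c hc => cA_comm h (hz hc) hg
  have heq : ∀ {z w : Ω}, z ≠ w → R ≤ cA G z → R ≤ cA G w → cA G z ⊓ cA G w = R := by
    intro z w hzw hz hw
    have hle : R ≤ cA G z ⊓ cA G w := le_inf hz hw
    refine (Subgroup.eq_of_le_of_card_ge hle ?_).symm
    exact hmax (z, w) (Finset.mem_filter.2 ⟨Finset.mem_univ _, hzw, fun h' => hR (hle.trans h')⟩)
  have hfixΦ : ∀ {i : G}, orderOf i = 2 → i ∈ H → ∀ {z : Ω}, i • z = z → R ≤ cA G z := by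
    intro i hi hiH z hz c hc
    exact mem_cA_of_commute h hi hz (Subgroup.mem_centralizer_iff.1 hiH c hc)
  have haR : R ≤ cA G a := inf_le_left
  have hbR : R ≤ cA G b := inf_le_right
  have hord : ∀ {i : H}, orderOf i = 2 ↔ orderOf (i : G) = 2 := fun {i} => by
    rw [Subgroup.orderOf_coe]
  -- the setup on `H`
  have hSH : Setup H {z : Ω // R ≤ cA G z} := by
    refine ⟨⟨fun i hi z w hz hw => ?_, fun i hi => ?_, fun z => ?_, fun z w => ?_⟩, ?_,
      fun i hi => ?_, fun i j hi hj z hz hw => ?_, fun z => ?_⟩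
    · exact Subtype.ext (h.uf.unique i (hord.1 hi) z.1 w.1 (congrArg Subtype.val hz)
        (congrArg Subtype.val hw))
    · obtain ⟨z, hz⟩ := h.uf.exists_fix i (hord.1 hi)
      exact ⟨⟨z, hfixΦ (hord.1 hi) i.2 hz⟩, Subtype.ext hz⟩
    · obtain ⟨i, hi, hiz⟩ := exists_inv h z.1
      exact ⟨⟨i, hsub z.2 (invol_mem h hi hiz)⟩, hord.2 hi, Subtype.ext hiz⟩
    · by_cases hzw : z = w
      · exact ⟨1, by rw [one_smul, hzw]⟩
      obtain ⟨i, hi, hiz⟩ := exists_inv h z.1
      obtain ⟨j, hj, hjw⟩ := exists_inv h w.1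
      have hne' : z.1 ≠ w.1 := fun e => hzw (Subtype.ext e)
      obtain ⟨k, hk⟩ := conj_pow_eq_of_odd hi hj (odd_mul h.uf hi hj hiz hjw hne')
      have hm : (i * j) ^ k ∈ H :=
        pow_mem (mul_mem (hsub z.2 (invol_mem h hi hiz)) (hsub w.2 (invol_mem h hj hjw))) k
      refine ⟨⟨_, hm⟩, Subtype.ext (h.uf.unique j hj _ _ ?_ hjw)⟩
      show j • ((i * j) ^ k) • z.1 = ((i * j) ^ k) • z.1
      have h1 : j * (i * j) ^ k = (i * j) ^ k * i := (mul_inv_eq_iff_eq_mul.1 hk).symm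
      rw [smul_smul, h1, mul_smul, hiz]
    · exact ⟨⟨a, haR⟩, ⟨b, hbR⟩, fun e => hne (congrArg Subtype.val e)⟩
    · haveI := h.abel i (hord.1 hi)
      refine ⟨⟨fun c d => Subtype.ext (Subtype.ext ?_)⟩⟩
      have hmem : ∀ c : Subgroup.centralizer ({i} : Set H),
          ((c : H) : G) ∈ Subgroup.centralizer ({(i : G)} : Set G) := fun c =>
        mem_centralizer_singleton_iff.2
          (congrArg Subtype.val (mem_centralizer_singleton_iff.1 c.2))
      have h1 := congrArg Subtype.val (mul_comm'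
        (⟨_, hmem c⟩ : Subgroup.centralizer ({(i : G)} : Set G)) ⟨_, hmem d⟩)
      exact h1
    · exact Subtype.ext (h.commute_same i j (hord.1 hi) (hord.1 hj) z.1 (congrArg Subtype.val hz)
        (congrArg Subtype.val hw))
    · refine (h.two_le z.1).trans (Nat.card_le_card_of_injective
        (fun i : invMap (G := G) z.1 z.1 => (⟨⟨(i : G), hsub z.2 (invol_mem h i.2.1 i.2.2)⟩,
          hord.2 i.2.1, Subtype.ext i.2.2⟩ : invMap (G := H) z z))
        fun i j e => Subtype.ext ?_)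
      exact congrArg (fun k : invMap (G := H) z z => ((k : H) : G)) e
  have hcAH : ∀ {z : {z : Ω // R ≤ cA G z}} {g : H}, g ∈ cA H z ↔ (g : G) ∈ cA G z.1 := by
    intro z g
    rw [mem_cA_iff, mem_cA_iff]
    constructor
    · intro H' i hi hiz
      exact congrArg Subtype.val (H' ⟨i, hsub z.2 (invol_mem h hi hiz)⟩ (hord.2 hi)
        (Subtype.ext hiz))
    · intro H' i hi hiz
      exact Subtype.ext (H' i (hord.1 hi) (congrArg Subtype.val hiz))
  set R' := R.subgroupOf H with hR'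
  have hcent : R' ≤ Subgroup.center H := fun c hc => Subgroup.mem_center_iff.2 fun g =>
    Subtype.ext (Subgroup.mem_centralizer_iff.1 g.2 c hc).symm
  haveI : R'.Normal := ⟨fun c hc g => by
    rwa [Subgroup.mem_center_iff.1 (hcent hc) g, mul_inv_cancel_right]⟩
  have hRH : R ≤ H := fun c hc => hsub haR (haR hc)
  have hodd : Odd (Nat.card R') := by
    rw [Nat.card_congr (Subgroup.subgroupOfEquivOfLe hRH).toEquiv]
    exact odd_inf h hne
  letI := quotAction hSH R' hcent
  have hSQ := Setup.quotient hSH R' hcent hodd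
  have hTIQ : TI (H ⧸ R') {z : Ω // R ≤ cA G z} := by
    intro z w hzw
    rw [Subgroup.eq_bot_iff_forall]
    intro q hq
    obtain ⟨g, rfl⟩ := QuotientGroup.mk_surjective q
    obtain ⟨hz, hw⟩ := Subgroup.mem_inf.1 hq
    rw [mem_cA_quotient hSH R' hcent hodd, hcAH] at hz hw
    rw [QuotientGroup.eq_one_iff, Subgroup.mem_subgroupOf,
      ← heq (fun e => hzw (Subtype.ext e)) z.2 w.2]
    exact ⟨hz, hw⟩
  -- `H` is strongly embedded
  have hne_top : H ≠ ⊤ := by
    intro htop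
    refine hR fun c hc => Subgroup.mem_center_iff.2 fun g => ?_
    exact (Subgroup.mem_centralizer_iff.1 (show g ∈ H from htop ▸ Subgroup.mem_top g) c hc).symm
  obtain ⟨i₀, hi₀, hi₀a⟩ := exists_inv h a
  have heven : Even (Nat.card H) := by
    rw [even_iff_two_dvd, ← hi₀]
    exact Subgroup.orderOf_dvd_natCard _ (hsub haR (invol_mem h hi₀ hi₀a))
  have hstab : ∀ {z : Ω}, R ≤ cA G z → ∀ {g : G}, g • z = z → g ∈ H := by
    intro z hz g hg
    obtain ⟨w, hzw⟩ : ∃ w : {z : Ω // R ≤ cA G z}, (⟨z, hz⟩ : {z : Ω // R ≤ cA G z}) ≠ w := by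
      haveI := hSH.nontriv
      obtain ⟨w, hw⟩ := exists_ne (⟨z, hz⟩ : {z : Ω // R ≤ cA G z})
      exact ⟨w, hw.symm⟩
    obtain ⟨s, hs, hsz⟩ := exists_inv h z
    have hsH : s ∈ H := hsub hz (invol_mem h hs hsz)
    have ht : orderOf (g * s * g⁻¹) = 2 ∧ (g * s * g⁻¹) • z = z :=
      ⟨by rw [orderOf_conj_eq, hs],
        by rw [mul_smul, mul_smul, inv_smul_eq_iff.2 hg.symm, hsz, hg]⟩
    have htH : g * s * g⁻¹ ∈ H := hsub hz (invol_mem h ht.1 ht.2)
    obtain ⟨d, -, e⟩ := exists_conj_fix hSH.uf hzw (s := (⟨s, hsH⟩ : H)) (t := ⟨_, htH⟩)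
      ⟨hord.2 hs, Subtype.ext hsz⟩ ⟨hord.2 ht.1, Subtype.ext ht.2⟩
    have e' : (d : G) * s * (d : G)⁻¹ = g * s * g⁻¹ := congrArg Subtype.val e
    have hc : (d : G)⁻¹ * g ∈ cA G z := by
      refine mem_cA_of_commute h hs hsz (mul_inv_eq_iff_eq_mul.1 ?_)
      rw [show (d : G)⁻¹ * g * s * ((d : G)⁻¹ * g)⁻¹
        = (d : G)⁻¹ * (g * s * g⁻¹) * (d : G) by group, ← e']
      group
    simpa using mul_mem d.2 (hsub hz hc)
  have hSE : Cfsg.IsStronglyEmbedded H := by
    rw [isStronglyEmbedded_iff hne_top heven]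
    intro i hi ho g hg
    obtain ⟨z, hz⟩ := h.uf.exists_fix i ho
    have hzR := hfixΦ ho hi hz
    have ho' : orderOf (g⁻¹ * i * g) = 2 := by rw [← ho]; simpa using orderOf_conj_eq g⁻¹ i
    have hw : (g⁻¹ * i * g) • (g⁻¹ • z) = g⁻¹ • z := by
      rw [mul_smul, smul_inv_smul, mul_smul, hz]
    obtain ⟨k, hk⟩ := hSH.uf.transitive ⟨g⁻¹ • z, hfixΦ ho' hg hw⟩ ⟨z, hzR⟩
    have hk' : (k : G) • g⁻¹ • z = z := congrArg Subtype.val hk
    have h1 : (k : G) * g⁻¹ ∈ H := hstab hzR (by rw [mul_smul, hk'])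
    have h2 := mul_mem (inv_mem h1) k.2
    simpa using h2
  -- an odd order subgroup transitive on the involutions of `H`
  obtain ⟨u, hu⟩ : ∃ u : G, u ∉ H := by
    by_contra hc
    push Not at hc
    exact hne_top (eq_top_iff.2 fun g _ => hc g)
  have hneq : ((1 : G) : G ⧸ H) ≠ (u : G ⧸ H) := fun e => hu (by
    have := QuotientGroup.eq.1 e
    simpa using this)
  have hufH := SEmbed.uniqueFix hSE
  set E := pairStab G ((1 : G) : G ⧸ H) (u : G ⧸ H) with hE
  have hEodd : Odd (Nat.card E) := odd_pairStab hufH hneq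
  have hEH : E ≤ H := fun e he => (smul_one_eq_iff H e).1 (mem_pairStab.1 he).1
  have hEtr : ∀ s t : G, orderOf s = 2 → orderOf t = 2 → s ∈ H → t ∈ H →
      ∃ e ∈ E, e * s * e⁻¹ = t := fun s t hs ht hsH htH =>
    exists_conj_fix hufH hneq ⟨hs, (smul_one_eq_iff H s).2 hsH⟩ ⟨ht, (smul_one_eq_iff H t).2 htH⟩
  set E' := E.subgroupOf H with hE'
  have hE'odd : Odd (Nat.card E') := by
    rwa [Nat.card_congr (Subgroup.subgroupOfEquivOfLe hEH).toEquiv]
  set pa : {z : Ω // R ≤ cA G z} := ⟨a, haR⟩ with hpa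
  set F := (E' ⊓ MulAction.stabilizer H pa).map (QuotientGroup.mk' R') with hF
  have hFodd : Odd (Nat.card F) :=
    hE'odd.of_dvd_nat ((Subgroup.card_map_dvd _ _).trans (Subgroup.card_dvd_of_le inf_le_left))
  obtain ⟨pb, hpab, hFpb, hFexact⟩ := exists_unique_other hSQ hTIQ (x := pa) (F := F)
    (by rintro f ⟨e, he, rfl⟩; exact he.2) hFodd (by
      intro s hs t ht
      obtain ⟨s', hs', rfl⟩ := exists_invol_lift R' hcent hodd hs.1
      obtain ⟨t', ht', rfl⟩ := exists_invol_lift R' hcent hodd ht.1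
      have hsa : (s' : G) • a = a := congrArg Subtype.val (show s' • pa = pa from hs.2)
      have hta : (t' : G) • a = a := congrArg Subtype.val (show t' • pa = pa from ht.2)
      obtain ⟨e, he, e1⟩ := hEtr s' t' (hord.1 hs') (hord.1 ht') s'.2 t'.2
      have hea : e • a = a := by
        refine h.uf.unique (t' : G) (hord.1 ht') _ _ ?_ hta
        rw [← e1, smul_smul, inv_mul_cancel_right, mul_smul, hsa]
      refine ⟨((⟨e, hEH he⟩ : H) : H ⧸ R'), ⟨⟨e, hEH he⟩, ⟨he, Subtype.ext hea⟩, rfl⟩, ?_⟩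
      rw [← QuotientGroup.mk_inv, ← QuotientGroup.mk_mul, ← QuotientGroup.mk_mul]
      exact congrArg (fun k : H => (k : H ⧸ R')) (Subtype.ext e1))
  refine false_of_two_fixed (a := pa) (b := pb) E' hE'odd hpab ?_ (fun f hf hfa =>
    hFpb _ ⟨f, ⟨hf, hfa⟩, rfl⟩) fun c hc => hFexact c ?_
  · obtain ⟨s, hs, hsa⟩ := exists_inv h a
    obtain ⟨t, ht, htb⟩ := exists_inv h pb.1
    obtain ⟨e, he, e1⟩ := hEtr s t hs ht (hsub haR (invol_mem h hs hsa))
      (hsub pb.2 (invol_mem h ht htb))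
    refine ⟨⟨e, hEH he⟩, he, Subtype.ext (h.uf.unique t ht _ _ ?_ htb)⟩
    show t • e • a = e • a
    rw [← e1, smul_smul, inv_mul_cancel_right, mul_smul, hsa]
  · rintro q ⟨e, he, rfl⟩
    exact hc e he.1 he.2

theorem inf_eq_center {x y : Ω} (hxy : x ≠ y) : cA G x ⊓ cA G y = Subgroup.center G :=
  le_antisymm (inf_le_center h hxy) (le_inf (center_le_cA x) (center_le_cA y))

theorem odd_center : Odd (Nat.card (Subgroup.center G)) := by
  haveI := h.nontriv
  obtain ⟨x, y, hxy⟩ := exists_pair_ne Ω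
  rw [← inf_eq_center h hxy]
  exact odd_inf h hxy

/-- The quotient by the centre is in the trivial intersection case. -/
theorem TI_quotient_center :
    letI := quotAction h (Subgroup.center G) le_rfl
    TI (G ⧸ Subgroup.center G) Ω := by
  letI := quotAction h (Subgroup.center G) le_rfl
  intro z w hzw
  rw [Subgroup.eq_bot_iff_forall]
  intro q hq
  obtain ⟨g, rfl⟩ := QuotientGroup.mk_surjective q
  obtain ⟨hz, hw⟩ := Subgroup.mem_inf.1 hq
  rw [mem_cA_quotient h _ le_rfl (odd_center h)] at hz hw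
  rw [QuotientGroup.eq_one_iff, ← inf_eq_center h hzw]
  exact ⟨hz, hw⟩

end CfsgLib.InvCentAbelian
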