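import Cfsg.Agent.InvCentAbelian.TI

/-!
# The point stabilizer is a Frobenius group with kernel `cA`
-/

set_option autoImplicit false
set_option linter.unusedSectionVars false
set_option linter.style.haveILetI false

namespace CfsgLib.InvCentAbelian

open CfsgLib.SEmbed CfsgLib.Small Subgroup

variable {G : Type*} [Group G] {Ω : Type*} [MulAction G Ω] [Finite G] (h : Setup G Ω)
  (hTI : TI G Ω)
include h hTI

theorem mem_inf_eq_one {x y : Ω} (hxy : x ≠ y) {a : G} (ha : a ∈ cA G x) (hd : a ∈ pairStab G x y) :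
    a = 1 :=
  Subgroup.mem_bot.1 (inf_cA_eq_bot h hTI hxy ▸ Subgroup.mem_inf.2 ⟨hd, ha⟩)

theorem card_pairStab {x y : Ω} (hxy : x ≠ y) :
    Nat.card (pairStab G x y) = Nat.card (invMap (G := G) x x) := by
  rw [card_pairStab_eq h hxy, inf_cA_eq_bot h hTI hxy, Subgroup.card_bot, mul_one]

theorem exists_ne_one {x y : Ω} (hxy : x ≠ y) : ∃ d ∈ pairStab G x y, d ≠ 1 := by
  by_contra hc
  push Not at hc
  have h1 := Subgroup.card_eq_one.2 ((eq_bot_iff_forall _).2 hc)
  have h2 := h.two_le x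
  rw [card_pairStab h hTI hxy] at h1
  omega

theorem swap_inverts {x y : Ω} (hxy : x ≠ y) {v d : G} (hv : v ∈ invMap (G := G) x y)
    (hd : d ∈ pairStab G x y) : v * d * v⁻¹ = d⁻¹ := by
  have hcard : Nat.card (invMap (G := G) x y) = Nat.card (pairStab G x y) := by
    rw [card_invMap_eq h.uf hxy, card_pairStab h hTI hxy]
  have hm : ∀ j : invMap (G := G) x y, v * (j : G) ∈ pairStab G x y := fun j => mem_pairStab.2
    ⟨by rw [mul_smul, j.2.2, smul_back hv.1 hv.2],
      by rw [mul_smul, smul_back j.2.1 j.2.2, hv.2]⟩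
  obtain ⟨j, hj⟩ := ((Nat.bijective_iff_injective_and_card
    (fun j => (⟨_, hm j⟩ : pairStab G x y))).2 ⟨fun a b e =>
      Subtype.ext (mul_left_cancel (congrArg Subtype.val e)), hcard⟩).2 ⟨d, hd⟩
  have hj' : v * (j : G) = d := congrArg Subtype.val hj
  rw [← hj', mul_inv_rev, inv_eq_self_of_orderOf_two hv.1, inv_eq_self_of_orderOf_two j.2.1,
    ← mul_assoc, mul_self_of_orderOf_two hv.1, one_mul]

theorem pairStab_comm {x y : Ω} (hxy : x ≠ y) {a b : G} (ha : a ∈ pairStab G x y)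
    (hb : b ∈ pairStab G x y) : Commute a b := by
  obtain ⟨v, hv⟩ := exists_swap h hxy
  have key := swap_inverts h hTI hxy hv (mul_mem hb ha)
  rw [show v * (b * a) * v⁻¹ = (v * b * v⁻¹) * (v * a * v⁻¹) by group,
    swap_inverts h hTI hxy hv hb, swap_inverts h hTI hxy hv ha, ← mul_inv_rev] at key
  exact inv_injective key

theorem pow_two_ne {x y : Ω} (hxy : x ≠ y) {d : G} (hd : d ∈ pairStab G x y) (hd1 : d ≠ 1) :
    d * d ≠ 1 := by
  intro h2
  have hodd := (odd_pairStab h.uf hxy).of_dvd_nat (Subgroup.orderOf_dvd_natCard _ hd)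
  rw [orderOf_eq_prime (by rw [sq]; exact h2) hd1] at hodd
  exact absurd hodd (by decide)

/-- An element of a two point stabilizer commutes with no involution. -/
theorem not_commute_invol {x y : Ω} (hxy : x ≠ y) {d i : G} (hd : d ∈ pairStab G x y)
    (hi : orderOf i = 2) (hc : Commute d i) : d = 1 := by
  obtain ⟨z, hz⟩ := h.uf.exists_fix i hi
  have hdA : d ∈ cA G z := mem_cA_of_commute h hi hz hc
  by_cases hzx : z = x
  · subst hzx
    exact mem_inf_eq_one h hTI hxy hdA hd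
  · exact mem_inf_eq_one h hTI hzx hdA
      (mem_pairStab.2 ⟨cA_fix h hdA, (mem_pairStab.1 hd).1⟩)

/-- A non-identity element fixes at most two points. -/
theorem eq_one_of_fix_three {x y z : Ω} (hxy : x ≠ y) (hxz : x ≠ z) (hyz : y ≠ z) {d : G}
    (hd : d ∈ pairStab G x y) (hdz : d • z = z) : d = 1 := by
  by_contra hd1
  obtain ⟨hdx, hdy⟩ := mem_pairStab.1 hd
  obtain ⟨v₁, hv₁⟩ := exists_swap h hxz
  obtain ⟨v₂, hv₂⟩ := exists_swap h hyz.symm
  obtain ⟨v, hv⟩ := exists_swap h hxy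
  have e₁ := swap_inverts h hTI hxz hv₁ (mem_pairStab.2 ⟨hdx, hdz⟩)
  have e₂ := swap_inverts h hTI hyz.symm hv₂ (mem_pairStab.2 ⟨hdz, hdy⟩)
  have e₀ := swap_inverts h hTI hxy hv hd
  set g := v * (v₂ * v₁) with hg
  have hgx : g • x = x := by
    rw [hg, mul_smul, mul_smul, hv₁.2, hv₂.2, smul_back hv.1 hv.2]
  have e₂' : v₂ * d⁻¹ * v₂⁻¹ = d := by
    have h3 := congrArg Inv.inv e₂
    rw [inv_inv] at h3
    exact (show v₂ * d⁻¹ * v₂⁻¹ = (v₂ * d * v₂⁻¹)⁻¹ by group).trans h3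
  have hgd : g * d * g⁻¹ = d⁻¹ := by
    rw [hg, show v * (v₂ * v₁) * d * (v * (v₂ * v₁))⁻¹
      = v * (v₂ * (v₁ * d * v₁⁻¹) * v₂⁻¹) * v⁻¹ by group, e₁, e₂', e₀]
  set k := Nat.card (Subgroup.centralizer ({d} : Set G)) with hk
  have hkodd : Odd k := by
    by_contra hodd
    obtain ⟨i, hi, ho⟩ := exists_invol_mem (Nat.not_odd_iff_even.1 hodd)
    exact hd1 (not_commute_invol h hTI hxy hd ho (mem_centralizer_singleton_iff.1 hi).symm)
  have hgd' : g * d⁻¹ * g⁻¹ = d := by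
    have h3 := congrArg Inv.inv hgd
    rw [inv_inv] at h3
    exact (show g * d⁻¹ * g⁻¹ = (g * d * g⁻¹)⁻¹ by group).trans h3
  have hg2 : g * g ∈ Subgroup.centralizer ({d} : Set G) := by
    rw [mem_centralizer_singleton_iff]
    refine mul_inv_eq_iff_eq_mul.1 ?_
    rw [show g * g * d * (g * g)⁻¹ = g * (g * d * g⁻¹) * g⁻¹ by group, hgd, hgd']
  have hinv : ∀ n : ℕ, g ^ (2 * n + 1) * d * (g ^ (2 * n + 1))⁻¹ = d⁻¹ := by
    intro n
    induction n with
    | zero => simpa using hgd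
    | succ n ih =>
      rw [show 2 * (n + 1) + 1 = 2 + (2 * n + 1) by ring, pow_add, sq,
        show g * g * g ^ (2 * n + 1) * d * (g * g * g ^ (2 * n + 1))⁻¹
          = g * g * (g ^ (2 * n + 1) * d * (g ^ (2 * n + 1))⁻¹) * (g * g)⁻¹ by group, ih,
        show g * g * d⁻¹ * (g * g)⁻¹ = g * (g * d⁻¹ * g⁻¹) * g⁻¹ by group, hgd', hgd]
  obtain ⟨n, hn⟩ := hkodd
  set i := g ^ k with hik
  have hid : i * d * i⁻¹ = d⁻¹ := by rw [hik, hn]; exact hinv n
  have hd2 : d⁻¹ ≠ d := fun e =>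
    pow_two_ne h hTI hxy hd hd1 (by nth_rewrite 1 [← e]; exact inv_mul_cancel d)
  have hi : orderOf i = 2 := by
    refine orderOf_eq_prime ?_ fun h1 => hd2 ?_
    · rw [hik, ← pow_mul, mul_comm, pow_mul, sq]
      exact congrArg Subtype.val
        (pow_card_eq_one' (x := (⟨g * g, hg2⟩ : Subgroup.centralizer ({d} : Set G))))
    · rw [← hid, h1, one_mul, inv_one, mul_one]
  have hix : i • x = x := MulAction.mem_stabilizer_iff.1 (pow_mem (show g ∈
    MulAction.stabilizer G x from hgx) k)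
  have hiA := invol_mem h hi hix
  have hmem : d⁻¹ * d⁻¹ ∈ cA G x := by
    have h1 : i * (d * i⁻¹ * d⁻¹) ∈ cA G x :=
      mul_mem hiA (conj_mem_cA_of_fix hdx (inv_mem hiA))
    rwa [← mul_assoc, ← mul_assoc, hid] at h1
  have h2 := mem_inf_eq_one h hTI hxy hmem (mul_mem (inv_mem hd) (inv_mem hd))
  exact pow_two_ne h hTI hxy (inv_mem hd) (fun e => hd1 (inv_eq_one.1 e)) h2

theorem cA_semiregular {x y : Ω} (hxy : x ≠ y) {a : G} (ha : a ∈ cA G x) (hy : a • y = y) :
    a = 1 :=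
  mem_inf_eq_one h hTI hxy ha (mem_pairStab.2 ⟨cA_fix h ha, hy⟩)

theorem exists_decomp' {x y : Ω} (hxy : x ≠ y) {g : G} (hg : g • x = x) :
    ∃! p : ↥(cA G x) × ↥(pairStab G x y), (p.1 : G) * (p.2 : G) = g := by
  obtain ⟨d, hd, hm⟩ := exists_decomp h hxy hg
  refine ⟨(⟨_, hm⟩, ⟨d, hd⟩), inv_mul_cancel_right g d, ?_⟩
  rintro ⟨⟨a, ha⟩, ⟨e, he⟩⟩ (h1 : a * e = g)
  have h2 : e * d⁻¹ = 1 := by
    refine mem_inf_eq_one h hTI hxy ?_ (mul_mem he (inv_mem hd))
    rw [show e * d⁻¹ = a⁻¹ * (g * d⁻¹) by rw [← h1]; group]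
    exact mul_mem (inv_mem ha) hm
  have h3 : e = d := mul_inv_eq_one.1 h2
  subst h3
  exact Prod.ext (Subtype.ext (eq_mul_inv_of_mul_eq h1)) rfl

theorem card_stabilizer {x y : Ω} (hxy : x ≠ y) :
    Nat.card (MulAction.stabilizer G x) =
      Nat.card (cA G x) * Nat.card (invMap (G := G) x x) := by
  rw [← card_pairStab h hTI hxy, ← Nat.card_prod]
  refine (Nat.card_eq_of_bijective (fun p : ↥(cA G x) × ↥(pairStab G x y) =>
    (⟨(p.1 : G) * (p.2 : G), mul_mem (cA_fix h p.1.2) (mem_pairStab.1 p.2.2).1⟩ :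
      MulAction.stabilizer G x)) ⟨fun p q e => ?_, fun g => ?_⟩).symm
  · obtain ⟨r, -, hr⟩ := exists_decomp' h hTI hxy (g := (p.1 : G) * (p.2 : G))
      (mul_mem (s := MulAction.stabilizer G x) (cA_fix h p.1.2) (mem_pairStab.1 p.2.2).1)
    rw [hr p rfl, hr q (congrArg Subtype.val e).symm]
  · obtain ⟨p, hp, -⟩ := exists_decomp' h hTI hxy g.2
    exact ⟨p, Subtype.ext hp⟩

theorem conj_pairStab_ne {x y : Ω} (hxy : x ≠ y) {a : G} (ha : a ∈ cA G x) : a • y ≠ x := fun e =>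
  hxy (smul_left_cancel a ((cA_fix h ha).trans e.symm))

/-- Every element of the point stabilizer outside `cA` is conjugate to an element of a fixed two
point stabilizer. -/
theorem exists_conj_pairStab {x y : Ω} (hxy : x ≠ y) {g : G} (hgx : g • x = x)
    (hg : g ∉ cA G x) : ∃ a ∈ cA G x, ∃ d ∈ pairStab G x y, d ≠ 1 ∧ g = a * d * a⁻¹ := by
  classical
  have hmem : ∀ p : ↥(cA G x) × {d : pairStab G x y // d ≠ 1},
      (p.1 : G) * (p.2.1 : G) * (p.1 : G)⁻¹ ∈ MulAction.stabilizer G x ∧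
        (p.1 : G) * (p.2.1 : G) * (p.1 : G)⁻¹ ∉ cA G x := by
    intro p
    have h1 : (p.1 : G) • x = x := cA_fix h p.1.2
    refine ⟨mul_mem (mul_mem h1 (mem_pairStab.1 p.2.1.2).1) (inv_mem h1), fun hm => p.2.2 ?_⟩
    refine Subtype.ext (mem_inf_eq_one h hTI hxy ?_ p.2.1.2)
    simpa [mul_assoc] using mul_mem (mul_mem (inv_mem p.1.2) hm) p.1.2
  let f : ↥(cA G x) × {d : pairStab G x y // d ≠ 1} →
      {g : G // g ∈ MulAction.stabilizer G x ∧ g ∉ cA G x} := fun p => ⟨_, hmem p⟩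
  have hf : Function.Injective f := by
    intro p q e
    have e' : (p.1 : G) * (p.2.1 : G) * (p.1 : G)⁻¹ = (q.1 : G) * (q.2.1 : G) * (q.1 : G)⁻¹ :=
      congrArg Subtype.val e
    have hfix : ∀ (a d : G), d • y = y → (a * d * a⁻¹) • a • y = a • y := fun a d hd => by
      rw [mul_smul, inv_smul_smul, mul_smul, hd]
    have hpy : (p.1 : G) • y = (q.1 : G) • y := by
      by_contra hne
      have h1 : (p.1 : G) * (p.2.1 : G) * (p.1 : G)⁻¹ = 1 :=
        eq_one_of_fix_three h hTI (conj_pairStab_ne h hTI hxy p.1.2).symm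
          (conj_pairStab_ne h hTI hxy q.1.2).symm hne
          (mem_pairStab.2 ⟨(hmem p).1, hfix _ _ (mem_pairStab.1 p.2.1.2).2⟩)
          (by rw [e']; exact hfix _ _ (mem_pairStab.1 q.2.1.2).2)
      exact (hmem p).2 (h1 ▸ one_mem _)
    have h1 : (q.1 : G)⁻¹ * p.1 = 1 := cA_semiregular h hTI hxy (mul_mem (inv_mem q.1.2) p.1.2)
      (by rw [mul_smul, hpy, inv_smul_smul])
    have h2 : p.1 = q.1 := Subtype.ext (inv_mul_eq_one.1 h1).symm
    rw [h2] at e'
    exact Prod.ext h2 (Subtype.ext (Subtype.ext (mul_left_cancel (mul_right_cancel e'))))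
  have hA : ∀ a : G, a ∈ cA G x → a ∈ MulAction.stabilizer G x := fun a ha => cA_fix h ha
  have hcard : Nat.card (↥(cA G x) × {d : pairStab G x y // d ≠ 1}) =
      Nat.card {g : G // g ∈ MulAction.stabilizer G x ∧ g ∉ cA G x} := by
    rw [Nat.card_prod]
    show Nat.card (cA G x) * Nat.card ({d : pairStab G x y | d ≠ 1} : Set (pairStab G x y)) =
      Nat.card (((MulAction.stabilizer G x : Set G) \ (cA G x : Set G)) : Set G)
    rw [Nat.card_coe_set_eq, Nat.card_coe_set_eq,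
      show {d : pairStab G x y | d ≠ 1} = Set.univ \ {1} by ext; simp,
      Set.ncard_sdiff_singleton_of_mem (Set.mem_univ _), Set.ncard_univ,
      card_pairStab h hTI hxy, Set.ncard_sdiff (t := (MulAction.stabilizer G x : Set G)) hA,
      ← Nat.card_coe_set_eq, ← Nat.card_coe_set_eq]
    show _ = Nat.card (MulAction.stabilizer G x) - Nat.card (cA G x)
    rw [card_stabilizer h hTI hxy, Nat.mul_sub_one]
  obtain ⟨p, hp⟩ := ((Nat.bijective_iff_injective_and_card f).2 ⟨hf, hcard⟩).2 ⟨g, hgx, hg⟩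
  exact ⟨p.1, p.1.2, p.2.1, p.2.1.2, fun e => p.2.2 (Subtype.ext e), (congrArg Subtype.val hp).symm⟩

/-- `cA` is transitive on the other points. -/
theorem exists_cA_smul {x y z : Ω} (hxy : x ≠ y) (hxz : x ≠ z) : ∃ a ∈ cA G x, a • y = z := by
  obtain ⟨e, he, he1⟩ := exists_ne_one h hTI hxz
  obtain ⟨a, ha, d, hd, -, rfl⟩ := exists_conj_pairStab h hTI hxy (mem_pairStab.1 he).1
    fun hm => he1 (mem_inf_eq_one h hTI hxz hm he)
  refine ⟨a, ha, ?_⟩
  by_contra hne
  refine he1 (eq_one_of_fix_three h hTI hxz (conj_pairStab_ne h hTI hxy ha).symm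
    (Ne.symm hne) he ?_)
  rw [mul_smul, inv_smul_smul, mul_smul, (mem_pairStab.1 hd).2]

/-- Every element of the point stabilizer outside `cA` fixes another point. -/
theorem exists_fix_other {x : Ω} {g : G} (hgx : g • x = x) (hg : g ∉ cA G x) :
    ∃ y, x ≠ y ∧ g • y = y := by
  haveI := h.nontriv
  obtain ⟨y, hy⟩ := exists_ne x
  obtain ⟨a, ha, d, hd, -, rfl⟩ := exists_conj_pairStab h hTI hy.symm hgx hg
  exact ⟨a • y, (conj_pairStab_ne h hTI hy.symm ha).symm,
    by rw [mul_smul, inv_smul_smul, mul_smul, (mem_pairStab.1 hd).2]⟩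

theorem card_points (x : Ω) : Nat.card Ω = Nat.card (cA G x) + 1 := by
  classical
  haveI := h.nontriv
  haveI := finite_points h.uf
  obtain ⟨y, hy⟩ := exists_ne x
  have hbij : Function.Bijective (fun o : Option (cA G x) =>
      o.elim x fun a => (a : G) • y) := by
    refine ⟨?_, fun z => ?_⟩
    · rintro (_ | s) (_ | t) e <;> simp only [Option.elim] at e
      · rfl
      · exact absurd e.symm (conj_pairStab_ne h hTI hy.symm t.2)
      · exact absurd e (conj_pairStab_ne h hTI hy.symm s.2)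
      · exact congrArg some (Subtype.ext (inv_mul_eq_one.1
          (cA_semiregular h hTI hy.symm (mul_mem (inv_mem t.2) s.2)
            (by rw [mul_smul, e, inv_smul_smul]))).symm)
    · by_cases hz : x = z
      · exact ⟨none, hz⟩
      · obtain ⟨a, ha, e⟩ := exists_cA_smul h hTI hy.symm hz
        exact ⟨some ⟨a, ha⟩, e⟩
  rw [← Nat.card_eq_of_bijective _ hbij, Finite.card_option]

/-- `cA` is the centralizer of each of its non-identity elements. -/
theorem centralizer_cA {x : Ω} {a : G} (ha : a ∈ cA G x) (ha1 : a ≠ 1) :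
    Subgroup.centralizer ({a} : Set G) = cA G x := by
  refine le_antisymm (fun c hc => ?_)
    fun b hb => mem_centralizer_singleton_iff.2 (cA_comm h hb ha)
  rw [mem_centralizer_singleton_iff] at hc
  have hcx : c • x = x := by
    by_contra hne
    refine ha1 (eq_one_of_mem_two h hTI (Ne.symm hne) ha ?_)
    have h1 := conj_mem_cA c ha
    rwa [hc, mul_inv_cancel_right] at h1
  by_contra hcA
  obtain ⟨z, hz, hcz⟩ := exists_fix_other h hTI hcx hcA
  refine hcA ((eq_one_of_fix_three h hTI hz (conj_pairStab_ne h hTI hz ha).symm ?_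
    (mem_pairStab.2 ⟨hcx, hcz⟩) ?_).symm ▸ one_mem _)
  · exact fun e => ha1 (cA_semiregular h hTI hz ha e.symm)
  · rw [← mul_smul, hc, mul_smul, hcz]

theorem cA_ne_bot (x : Ω) : cA G x ≠ ⊥ := by
  obtain ⟨i, hi, hx⟩ := exists_inv h x
  intro hb
  exact ne_one_of_orderOf_two hi (Subgroup.mem_bot.1 (hb ▸ invol_mem h hi hx))

theorem normalizer_cA (x : Ω) :
    Subgroup.normalizer (cA G x : Set G) = MulAction.stabilizer G x := by
  refine le_antisymm (fun g hg => ?_) fun g hg => mem_normalizer_iff.2 fun a => ?_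
  · obtain ⟨i, hi, hx⟩ := exists_inv h x
    have h1 := (mem_normalizer_iff.1 hg i).1 (invol_mem h hi hx)
    rw [MulAction.mem_stabilizer_iff]
    by_contra hne
    refine ne_one_of_orderOf_two hi ?_
    have h2 := eq_one_of_mem_two h hTI (Ne.symm hne) h1 (conj_mem_cA g (invol_mem h hi hx))
    simpa [mul_inv_eq_one, mul_eq_left] using h2
  · refine ⟨conj_mem_cA_of_fix hg, fun h1 => ?_⟩
    simpa [mul_assoc] using conj_mem_cA_of_fix (g := g⁻¹) (inv_smul_eq_iff.2 (MulAction.mem_stabilizer_iff.1 hg).symm) h1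

theorem isTI_cA (x : Ω) {g : G} (hg : g • x ≠ x) {a : G} (ha : a ∈ cA G x)
    (hga : g * a * g⁻¹ ∈ cA G x) : a = 1 := by
  have h1 := eq_one_of_mem_two h hTI hg.symm hga (conj_mem_cA g ha)
  simpa [mul_inv_eq_one, mul_eq_left] using h1

end CfsgLib.InvCentAbelian
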