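import Mathlib.Analysis.Complex.Basic
import Mathlib.Tactic

/-!
# The two estimates for the exceptional characters
-/

set_option autoImplicit false

namespace CfsgLib.InvCentAbelian

/-- The column estimate forces the common correction to vanish. -/
theorem correction_eq_zero {γ ε : ℤ} {A r e : ℕ} (hε : ε = 1 ∨ ε = -1) (hr : 2 ≤ r)
    (hA : r * r + 2 * r + 1 ≤ A) (he : A ≤ e * r + 1)
    (h : (e : ℝ) * ((A : ℝ) * r - (r : ℝ) ^ 2 + ((A : ℝ) - 1) * (γ : ℝ) ^ 2 -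
      2 * (ε : ℝ) * γ * r) ≤ ((A : ℝ) - 1) * ((A : ℝ) - 1)) : γ = 0 := by
  by_contra hγ
  have hAr : (r : ℝ) * r + 2 * r + 1 ≤ A := by exact_mod_cast hA
  have her : (A : ℝ) ≤ e * r + 1 := by exact_mod_cast he
  have hr' : (2 : ℝ) ≤ r := by exact_mod_cast hr
  have hγ1 : (1 : ℝ) ≤ |(γ : ℝ)| := by
    rw [← Int.cast_abs]
    exact_mod_cast Int.one_le_abs hγ
  have hεγ : (ε : ℝ) * γ ≤ |(γ : ℝ)| := by
    rcases hε with rfl | rfl
    · simpa using le_abs_self (γ : ℝ)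
    · simpa using neg_le_abs (γ : ℝ)
  have hsq : (γ : ℝ) ^ 2 = |(γ : ℝ)| ^ 2 := (sq_abs _).symm
  set X := (A : ℝ) * r - (r : ℝ) ^ 2 + ((A : ℝ) - 1) * (γ : ℝ) ^ 2 - 2 * (ε : ℝ) * γ * r with hX
  have hg : |(γ : ℝ)| ≤ |(γ : ℝ)| ^ 2 := by nlinarith
  have hlow : (A : ℝ) * r ≤ X := by
    rw [hX, hsq]
    nlinarith [mul_le_mul_of_nonneg_right hεγ (by linarith : (0 : ℝ) ≤ 2 * r),
      mul_le_mul_of_nonneg_right (by linarith : (r : ℝ) * r + 2 * r ≤ (A : ℝ) - 1)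
        (sq_nonneg |(γ : ℝ)|),
      mul_le_mul_of_nonneg_left hg (by linarith : (0 : ℝ) ≤ 2 * r),
      mul_le_mul_of_nonneg_left (by nlinarith : (1 : ℝ) ≤ |(γ : ℝ)| ^ 2)
        (mul_self_nonneg (r : ℝ))]
  have hA1 : (0 : ℝ) < (A : ℝ) - 1 := by nlinarith [mul_self_nonneg (r : ℝ)]
  have hAr0 : (0 : ℝ) ≤ (A : ℝ) * r := by positivity
  have hXr : ((A : ℝ) - 1) * X ≤ ((A : ℝ) - 1) * (((A : ℝ) - 1) * r) := by
    nlinarith [mul_le_mul_of_nonneg_right (by linarith : (A : ℝ) - 1 ≤ e * r) (hAr0.trans hlow),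
      mul_le_mul_of_nonneg_left h (by linarith : (0 : ℝ) ≤ (r : ℝ))]
  linarith [le_of_mul_le_mul_left hXr hA1]

/-- The degree estimate forces the multiplicity of the principal character to vanish. -/
theorem multiplicity_eq_zero {g ε : ℤ} {A r e φ : ℕ} (hε : ε = 1 ∨ ε = -1) (hg : 0 ≤ g)
    (hr : 1 ≤ r)
    (hA : r * r + 2 * r + 1 ≤ A) (he : A ≤ e * r + 1) (hφ : (φ : ℤ) = ε * r + g * A)
    (h : e * (φ * φ) ≤ (A + 1) * A * r) : g = 0 := by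
  by_contra hne
  have hAr : (r : ℤ) * r + 2 * r + 1 ≤ A := by exact_mod_cast hA
  have her : (A : ℤ) ≤ e * r + 1 := by exact_mod_cast he
  have h' : (e : ℤ) * ((φ : ℤ) * φ) ≤ ((A : ℤ) + 1) * A * r := by exact_mod_cast h
  have hlow : (A : ℤ) - r ≤ φ := by
    rw [hφ]
    have hgA : (A : ℤ) ≤ g * A := le_mul_of_one_le_left (Int.natCast_nonneg A) (by omega)
    have hr1 : (0 : ℤ) ≤ r := Int.natCast_nonneg r
    rcases hε with rfl | rfl <;> linarith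
  have hr0 : (0 : ℤ) ≤ r := Int.natCast_nonneg r
  have hpos : (0 : ℤ) ≤ (A : ℤ) - r := by nlinarith
  have h1 : ((A : ℤ) - r) * ((A : ℤ) - r) ≤ (φ : ℤ) * φ := mul_self_le_mul_self hpos hlow
  have h2 : ((A : ℤ) - 1) * (((A : ℤ) - r) * ((A : ℤ) - r)) ≤ ((A : ℤ) + 1) * A * r * r := by
    calc ((A : ℤ) - 1) * (((A : ℤ) - r) * ((A : ℤ) - r)) ≤ (e * r) * ((φ : ℤ) * φ) :=
          mul_le_mul (by linarith) h1 (mul_nonneg hpos hpos) (by positivity)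
      _ = ((e : ℤ) * ((φ : ℤ) * φ)) * r := by ring
      _ ≤ _ := mul_le_mul_of_nonneg_right h' hr0
  have hr1 : (1 : ℤ) ≤ r := by exact_mod_cast hr
  nlinarith [mul_nonneg (sq_nonneg (A : ℤ)) (by linarith : (0 : ℤ) ≤ A - (r * r + 2 * r + 1)),
    mul_le_mul_of_nonneg_left (by linarith : (r : ℤ) ≤ A) hr0,
    mul_le_mul hr1 (by linarith : (1 : ℤ) ≤ A) (by norm_num) hr0]

end CfsgLib.InvCentAbelian
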