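import Cfsg.Agent.InvCentAbelian.Frobenius
import Cfsg.Agent.InvCentAbelian.Numeric
import Cfsg.Agent.Coherence.TIInduction
import Cfsg.Agent.Coherence.Frobenius
import Cfsg.Agent.Coherence.GroupFacts
import Cfsg.Agent.Characters.Exceptional
import Cfsg.Agent.OddOrderChar.AbelianInertia

/-!
# A normal subgroup from an exceptional character
-/

set_option autoImplicit false
set_option linter.unusedSectionVars false
set_option linter.style.haveILetI false

namespace CfsgLib.InvCentAbelian

open CfsgLib.SEmbed CfsgLib.Small CfsgLib.Characters Cfsg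

open scoped ComplexConjugate

universe u

variable {G : Type u} [Group G] [Fintype G]

noncomputable local instance (M : Subgroup G) : Fintype M := Fintype.ofFinite M

/-- The kernel of a character of degree `n`. -/
theorem exists_kernel {χ : G → ℂ} (hχ : IsCharacter G χ) :
    ∃ M : Subgroup G, M.Normal ∧ ∀ g : G, g ∈ M ↔ χ g = χ 1 := by
  obtain ⟨n, ρ, rfl⟩ := hχ
  refine ⟨MonoidHom.ker ρ, inferInstance, fun g => ?_⟩
  rw [MonoidHom.mem_ker, Representation.char_one]
  exact ⟨fun h => (char_eq_finrank_iff ρ g).2 h, fun h => (char_eq_finrank_iff ρ g).1 h⟩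

open Classical in
/-- A class function on an abelian group with equal coefficients at the non-principal characters. -/
theorem apply_of_coeff {B : Type u} [Group B] [Fintype B] (hB : ∀ a b : B, a * b = b * a)
    {f : B → ℂ} {c g : ℂ} (hc : classInner f (fun _ => 1) = c)
    (hg : ∀ χ : IrrCharacter B, (χ : B → ℂ) ≠ (fun _ => 1) → classInner f (χ : B → ℂ) = g)
    (a : B) : f a = (c - g) + if a = 1 then (Nat.card B : ℂ) * g else 0 := by
  classical
  have hcl : IsClassFunction B f := fun x y => by rw [hB y x, mul_inv_cancel_right]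
  have h1 := congrFun (classFunction_expansion hcl) a
  simp only [Finset.sum_apply, Pi.smul_apply, smul_eq_mul] at h1
  rw [h1, ← Finset.add_sum_erase Finset.univ _
      (Finset.mem_univ (⟨_, isIrr_one⟩ : IrrCharacter B)), hc,
    Finset.sum_congr rfl fun χ hχ => by
      rw [hg χ fun h => Finset.ne_of_mem_erase hχ (Subtype.ext h)], ← Finset.mul_sum]
  have hsum : ∑ χ ∈ (Finset.univ : Finset (IrrCharacter B)).erase ⟨_, isIrr_one⟩,
      (χ : B → ℂ) a = (if a = 1 then (Nat.card B : ℂ) else 0) - 1 := by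
    rw [← sum_degree_mul a, ← Finset.add_sum_erase Finset.univ _
      (Finset.mem_univ (⟨_, isIrr_one⟩ : IrrCharacter B))]
    simp only [mul_one]
    rw [add_sub_cancel_left]
    exact Finset.sum_congr rfl fun χ _ => by
      rw [OddOrderChar.irr_degree_one_of_comm hB χ, one_mul]
  rw [hsum]
  split_ifs <;> ring

variable {Ω : Type*} [MulAction G Ω] (h : Setup G Ω) (hTI : TI G Ω)
include h hTI

/-- If `cA G x` is not elementary abelian, a normal subgroup contains all its involutions but not
`cA G x`. -/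
theorem exists_normal_of_sq_ne {x : Ω} {b : G} (hb : b ∈ cA G x) (hb2 : b * b ≠ 1)
    (hbig : Nat.card (invMap (G := G) x x) * Nat.card (invMap (G := G) x x) +
      2 * Nat.card (invMap (G := G) x x) + 1 ≤ Nat.card (cA G x)) :
    ∃ M : Subgroup G, M.Normal ∧ (∀ i : G, orderOf i = 2 → i • x = x → i ∈ M) ∧
      ¬ cA G x ≤ M := by
  classical
  haveI := h.nontriv
  obtain ⟨y, hy⟩ := exists_ne x
  set N := MulAction.stabilizer G x with hNdef
  set A := cA G x with hAdef
  set r := Nat.card (invMap (G := G) x x) with hr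
  have hr2 : 2 ≤ r := h.two_le x
  have hAN : A ≤ N := fun a ha => cA_fix h ha
  have hnorm : Subgroup.normalizer (A : Set G) = N := normalizer_cA h hTI x
  set K := A.subgroupOf N with hKdef
  haveI hKn : K.Normal :=
    (Subgroup.normal_subgroupOf_iff_le_normalizer hAN).2 hnorm.ge
  have hTIA : Cfsg.IsTISubset (A : Set G) := by
    intro g hg a ha hga
    rw [hnorm] at hg
    exact isTI_cA h hTI x hg ha hga
  have hfix : ∀ k ∈ K, k ≠ 1 → Subgroup.centralizer ({k} : Set N) ≤ K := by
    intro k hk hk1 c hc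
    have h1 : (c : G) ∈ Subgroup.centralizer ({(k : G)} : Set G) :=
      Subgroup.mem_centralizer_singleton_iff.2
        (congrArg Subtype.val (Subgroup.mem_centralizer_singleton_iff.1 hc))
    exact (centralizer_cA h hTI (show (k : G) ∈ cA G x from hk)
      fun e => hk1 (Subtype.ext e)).le h1
  have hKcomm : ∀ a b : K, a * b = b * a := fun a b =>
    Subtype.ext (Subtype.ext (cA_comm h a.2 b.2))
  have hcardK : Nat.card K = Nat.card A :=
    Nat.card_congr (Subgroup.subgroupOfEquivOfLe hAN).toEquiv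
  have hcardN : Nat.card N = Nat.card A * r := card_stabilizer h hTI hy.symm
  have hindex : K.index = r := by
    have h1 := K.index_mul_card
    rw [hcardK, hcardN, mul_comm] at h1
    exact Nat.eq_of_mul_eq_mul_left Nat.card_pos h1
  have hcardG : Nat.card G = (Nat.card A + 1) * Nat.card A * r := by
    haveI : MulAction.IsPretransitive G Ω := ⟨h.uf.transitive⟩
    rw [← Subgroup.index_mul_card N, MulAction.index_stabilizer_of_transitive G x,
      card_points h hTI x, hcardN, mul_assoc]
  -- the family `S` of induced characters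
  set L := (Finset.univ : Finset (IrrCharacter K)).filter
    (fun lam : IrrCharacter K => (lam : K → ℂ) ≠ fun _ => 1) with hL
  set S := L.image (fun lam : IrrCharacter K => indFun K (lam : K → ℂ)) with hS
  have hmemS : ∀ θ : S, ∃ lam : IrrCharacter K, (lam : K → ℂ) ≠ (fun _ => 1) ∧
      (θ : N → ℂ) = indFun K (lam : K → ℂ) := by
    intro θ
    obtain ⟨lam, hlam, e⟩ := Finset.mem_image.1 θ.2
    exact ⟨lam, (Finset.mem_filter.1 hlam).2, e.symm⟩
  have hirr : ∀ θ : S, IsIrrCharacter N (θ : N → ℂ) := by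
    intro θ
    obtain ⟨lam, hlam, e⟩ := hmemS θ
    rw [e]
    exact Coherence.frob_ind_irr hfix lam.2 hlam
  have hdeg : ∀ θ : S, (θ : N → ℂ) 1 = (r : ℂ) := by
    intro θ
    obtain ⟨lam, -, e⟩ := hmemS θ
    rw [e, indFun_one, hindex, OddOrderChar.irr_degree_one_of_comm hKcomm lam, mul_one]
  have hoff : ∀ (θ : S) (n : N), n ∉ K → (θ : N → ℂ) n = 0 := by
    intro θ n hn
    obtain ⟨lam, -, e⟩ := hmemS θ
    rw [e, OddOrderChar.indFun_normal_eq_zero K _ hn]
  have hne1 : ∀ θ : S, (θ : N → ℂ) ≠ fun _ => 1 := by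
    intro θ e
    have h1 := hdeg θ
    rw [e] at h1
    have : (1 : ℂ) = r := h1
    have : (1 : ℕ) = r := by exact_mod_cast this
    omega
  -- the coefficient at a non-principal character of `K`
  have hfib : ∀ lam : IrrCharacter K, (lam : K → ℂ) ≠ (fun _ => 1) →
      indFun K (lam : K → ℂ) ∈ S := fun lam hlam =>
    Finset.mem_image.2 ⟨lam, Finset.mem_filter.2 ⟨Finset.mem_univ _, hlam⟩, rfl⟩
  have hrecip : ∀ (φ : N → ℂ), IsClassFunction N φ → ∀ lam : K → ℂ,
      classInner (fun k : K => φ k) lam = classInner φ (indFun K lam) := fun φ hφ lam =>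
    (classInner_indFun_right K lam hφ).symm
  have he : Nat.card A ≤ Fintype.card S * r + 1 := by
    have hLcard : L.card + 1 = Nat.card A := by
      rw [hL, show (Finset.univ.filter fun lam : IrrCharacter K => (lam : K → ℂ) ≠ fun _ => 1) =
        Finset.univ.erase (⟨_, isIrr_one⟩ : IrrCharacter K) by ext lam; simp [Subtype.ext_iff],
        Finset.card_erase_add_one (Finset.mem_univ _), Finset.card_univ, ← hcardK]
      have h1 := sum_degree_sq (G := K)
      simp only [OddOrderChar.irr_degree_one_of_comm hKcomm, one_pow, Finset.sum_const,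
        Finset.card_univ, nsmul_eq_mul, mul_one] at h1
      exact_mod_cast h1
    have hbound : L.card ≤ r * S.card := by
      refine Finset.card_le_mul_card_image L r fun θ hθ => ?_
      have hθ' : θ ∈ S := hθ
      obtain ⟨m, hm⟩ := exists_nat_coeff
        (isCharacter_restrict K (isCharacter_of_isIrr (hirr ⟨θ, hθ'⟩)))
      have hsum : ∑ lam : IrrCharacter K, m lam = r := by
        have h1 := congrFun hm 1
        simp only [Finset.sum_apply, Pi.smul_apply, smul_eq_mul,
          OddOrderChar.irr_degree_one_of_comm hKcomm, mul_one] at h1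
        have h2 : θ 1 = (r : ℂ) := hdeg ⟨θ, hθ'⟩
        simp only [OneMemClass.coe_one] at h1
        rw [h2] at h1
        exact_mod_cast h1.symm
      rw [← hsum, Finset.card_eq_sum_ones]
      refine le_trans (Finset.sum_le_sum fun lam hlam => ?_)
        (Finset.sum_le_sum_of_subset (Finset.subset_univ _))
      obtain ⟨-, hlam'⟩ := Finset.mem_filter.1 hlam
      have h1 : (m lam : ℂ) = 1 := by
        rw [← classInner_irr_coeff (fun χ => (m χ : ℂ)) lam, ← hm,
          hrecip θ (isClassFunction_of_isIrr (hirr ⟨θ, hθ'⟩)), hlam',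
          classInner_isIrr_self (hirr ⟨θ, hθ'⟩)]
      have : m lam = 1 := by exact_mod_cast h1
      omega
    rw [Fintype.card_coe]
    linarith
  have hnonempty : Nonempty S := by
    rw [← Fintype.card_pos_iff]
    by_contra h0
    have : Fintype.card S = 0 := by omega
    rw [this] at he
    nlinarith
  obtain ⟨θ₀⟩ := hnonempty
  -- differences and the isometry
  have hgenS : ∀ i : S, IsGeneralizedCharacter N (i : N → ℂ) := fun i => isGen_of_isIrr (hirr i)
  have hvan : ∀ (i j : S) (n : N), (n : G) ∉ A → ((i : N → ℂ) - (j : N → ℂ)) n = 0 := by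
    intro i j n hn
    rw [Pi.sub_apply, hoff i n (fun h' => hn h'), hoff j n (fun h' => hn h'), sub_zero]
  have hone : ∀ i j : S, ((i : N → ℂ) - (j : N → ℂ)) 1 = 0 := fun i j => by
    rw [Pi.sub_apply, hdeg, hdeg, sub_self]
  have hind : ∀ (i j : S) (n : N), (n : G) ∈ A →
      indFun N ((i : N → ℂ) - (j : N → ℂ)) n = ((i : N → ℂ) - (j : N → ℂ)) n := fun i j n hn =>
    Coherence.ti_ind_apply hTIA hnorm (isClassFunction_of_isGen (isGen_sub (hgenS i) (hgenS j)))
      (hvan i j) (hone i j) n hn
  have horth : ∀ i j : S, classInner (i : N → ℂ) (j : N → ℂ) = if i = j then 1 else 0 := by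
    intro i j
    split_ifs with hij
    · rw [hij]; exact classInner_isIrr_self (hirr j)
    · exact classInner_isIrr_ne (hirr i) (hirr j) fun e => hij (Subtype.ext e)
  have hiso : ∀ i j : S, classInner (indFun N ((i : N → ℂ) - (θ₀ : N → ℂ)))
      (indFun N ((j : N → ℂ) - (θ₀ : N → ℂ))) =
        classInner ((i : N → ℂ) - (θ₀ : N → ℂ)) ((j : N → ℂ) - (θ₀ : N → ℂ)) := by
    intro i j
    rw [classInner_indFun N _ (isClassFunction_indFun N _)]
    simp only [classInner]
    congr 1
    refine Finset.sum_congr rfl fun n _ => ?_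
    by_cases hn : (n : G) ∈ A
    · rw [hind j θ₀ n hn]
    · rw [hvan i θ₀ n hn, zero_mul, zero_mul]
  obtain ⟨ε, hε, μ, hμ, hμinj, hτ⟩ := exists_exceptional θ₀
    (fun i : S => indFun N ((i : N → ℂ) - (θ₀ : N → ℂ)))
    (by simp [sub_self, indFun_zero])
    (fun i => isGen_indFun N (isGen_sub (hgenS i) (hgenS θ₀)))
    (fun i => by rw [indFun_one, hone, mul_zero])
    (fun i j hi hj => by
      rw [hiso, classInner_sub_left, classInner_sub_right, classInner_sub_right, horth, horth,
        horth, horth, if_neg hi, if_neg (Ne.symm hj), if_pos rfl]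
      split_ifs <;> norm_num)
  obtain ⟨εz, hεz, rfl⟩ : ∃ z : ℤ, (z = 1 ∨ z = -1) ∧ ε = (z : ℂ) := by
    rcases hε with e | e
    · exact ⟨1, Or.inl rfl, by rw [e, Int.cast_one]⟩
    · exact ⟨-1, Or.inr rfl, by rw [e, Int.cast_neg, Int.cast_one]⟩
  have hεsq : (εz : ℂ) * εz = 1 := by rcases hεz with rfl | rfl <;> norm_num
  have horthμ : ∀ i j : S, classInner (μ i) (μ j) = if i = j then 1 else 0 := by
    intro i j
    split_ifs with hij
    · rw [hij]; exact classInner_isIrr_self (hμ j)
    · exact classInner_isIrr_ne (hμ i) (hμ j) fun e => hij (hμinj e)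
  have hμ0 : IsClassFunction G (μ θ₀) := isClassFunction_of_isIrr (hμ θ₀)
  -- the coefficients of `μ θ₀` on `N`
  set P : N → ℂ := fun n => μ θ₀ n with hP
  have hPc : IsCharacter N P := isCharacter_restrict N (isCharacter_of_isIrr (hμ θ₀))
  have hQ : ∀ i : S, classInner P (i : N → ℂ) =
      (classInner P (θ₀ : N → ℂ) - εz) + if i = θ₀ then (εz : ℂ) else 0 := by
    intro i
    have h1 : classInner P ((i : N → ℂ) - (θ₀ : N → ℂ)) =
        εz * ((if θ₀ = i then (1 : ℂ) else 0) - 1) := by
      rw [hP, ← classInner_indFun_right N _ hμ0, hτ i, classInner_smul_right, classInner_sub_right,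
        horthμ, horthμ, if_pos rfl, map_intCast]
    rw [classInner_sub_right, sub_eq_iff_eq_add] at h1
    rw [h1]
    by_cases hi : i = θ₀
    · rw [if_pos hi.symm, if_pos hi]; ring
    · rw [if_neg (Ne.symm hi), if_neg hi]; ring
  obtain ⟨q₀, hq₀⟩ := classInner_character_irr hPc (hirr θ₀)
  set gz : ℤ := (q₀ : ℤ) - εz with hgz
  have hgz' : classInner P (θ₀ : N → ℂ) - εz = (gz : ℂ) := by rw [hq₀, hgz]; push_cast; ring
  have hgz0 : 0 ≤ gz := by
    by_cases hone' : ∃ i : S, i ≠ θ₀
    · obtain ⟨i, hi⟩ := hone'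
      obtain ⟨q, hq⟩ := classInner_character_irr hPc (hirr i)
      have h1 := hQ i
      rw [hgz', if_neg hi, add_zero, hq] at h1
      have : (q : ℤ) = gz := by exact_mod_cast h1
      omega
    · push Not at hone'
      have : Fintype.card S ≤ 1 := Fintype.card_le_one_iff.2 fun a b => by rw [hone' a, hone' b]
      nlinarith
  set f₀ : K → ℂ := fun k => μ θ₀ (k : N) with hf₀
  have hf₀c : IsCharacter K f₀ := isCharacter_restrict K hPc
  obtain ⟨cN, hcN⟩ := classInner_characters hf₀c (isCharacter_of_isIrr (isIrr_one (G := K)))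
  -- the correction
  set γ : K → ℂ := fun k => f₀ k - εz * (θ₀ : N → ℂ) k with hγ
  have hγ_inner : ∀ lam : K → ℂ, classInner γ lam =
      classInner P (indFun K lam) - εz * classInner (θ₀ : N → ℂ) (indFun K lam) := by
    intro lam
    rw [show γ = f₀ - (εz : ℂ) • (fun k : K => (θ₀ : N → ℂ) k) from rfl, classInner_sub_left,
      classInner_smul_left, hrecip _ (isClassFunction_of_isIrr (hirr θ₀)),
      show f₀ = (fun k : K => P k) from rfl, hrecip _ (isClassFunction_of_isCharacter hPc)]
  have hzero : ∀ i : S, ∑ k : K, (i : N → ℂ) k = 0 := by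
    intro i
    have h1 := classInner_isIrr_ne (hirr i) isIrr_one (hne1 i)
    rw [classInner, mul_eq_zero] at h1
    have h2 := h1.resolve_left (inv_ne_zero natCard_ne_zero)
    simp only [map_one, mul_one] at h2
    rw [← h2, ← Fintype.sum_subtype_add_sum_subtype (fun n => n ∈ K) (i : N → ℂ),
      Finset.sum_eq_zero (s := (Finset.univ : Finset {n // n ∉ K})) (fun n _ => hoff i n n.2),
      add_zero]
    exact Finset.sum_congr (by ext; simp) fun _ _ => rfl
  have hθsum := hzero θ₀
  have hγ1 : classInner γ (fun _ => 1) = (cN : ℂ) := by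
    rw [show γ = f₀ - (εz : ℂ) • (fun k : K => (θ₀ : N → ℂ) k) from rfl, classInner_sub_left,
      classInner_smul_left, hcN]
    simp [classInner, hθsum]
  have hγg : ∀ lam : IrrCharacter K, (lam : K → ℂ) ≠ (fun _ => 1) →
      classInner γ (lam : K → ℂ) = (gz : ℂ) := by
    intro lam hlam
    rw [hγ_inner]
    have h1 := hQ ⟨_, hfib lam hlam⟩
    have h2 := horth θ₀ ⟨_, hfib lam hlam⟩
    simp only at h1 h2
    rw [h1, h2, hgz']
    by_cases hi : (⟨_, hfib lam hlam⟩ : S) = θ₀
    · rw [if_pos hi, if_pos hi.symm]; ring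
    · rw [if_neg hi, if_neg (Ne.symm hi)]; ring
  have hγval := apply_of_coeff hKcomm hγ1 hγg
  set γz : ℤ := (cN : ℤ) - gz with hγz
  -- every exceptional character on `K`
  have hres : ∀ (i : S) (k : K), μ i (k : N) =
      εz * (i : N → ℂ) k + ((γz : ℂ) + if k = 1 then (Nat.card A : ℂ) * gz else 0) := by
    intro i k
    have h1 : indFun N ((i : N → ℂ) - (θ₀ : N → ℂ)) ((k : N) : G) =
        ((i : N → ℂ) - (θ₀ : N → ℂ)) k := hind i θ₀ k k.2
    rw [hτ i] at h1
    simp only [Pi.smul_apply, Pi.sub_apply, smul_eq_mul] at h1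
    have h2 := hγval k
    simp only [hγ, hf₀, hcardK] at h2
    have h3 : μ i (k : N) - μ θ₀ (k : N) = εz * ((i : N → ℂ) k - (θ₀ : N → ℂ) k) := by
      rw [← h1, ← mul_assoc, hεsq, one_mul]
    rw [hγz]
    push_cast
    linear_combination h3 + h2
  set φz : ℤ := εz * r + γz + Nat.card A * gz with hφz
  have hdegμ : ∀ i : S, μ i 1 = (φz : ℂ) := by
    intro i
    have h1 := hres i 1
    simp only [OneMemClass.coe_one, if_pos] at h1
    rw [h1, hdeg i, hφz]
    push_cast
    ring
  obtain ⟨φ, hφpos, hφ⟩ := exists_degree_pos (hμ θ₀)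
  have hφeq : (φ : ℤ) = φz := by
    have h1 := hdegμ θ₀
    rw [hφ] at h1
    exact_mod_cast h1
  have hne1μ : ∀ i : S, μ i ≠ fun _ => 1 := by
    intro i e
    have h1 := hdegμ i
    rw [e] at h1
    have h1' : (1 : ℂ) = (φz : ℂ) := h1
    have h2 : φz = 1 := by exact_mod_cast h1'.symm
    have hq0 : (0 : ℤ) ≤ gz + εz := by
      have := Int.natCast_nonneg q₀
      omega
    have hc0 := Int.natCast_nonneg cN
    have hA' : (r : ℤ) * r + 2 * r + 1 ≤ Nat.card A := by exact_mod_cast hbig
    have hr' : (2 : ℤ) ≤ r := by exact_mod_cast hr2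
    rw [hφz, hγz] at h2
    rcases hεz with rfl | rfl <;> nlinarith
  -- the column estimate
  have hcol : ∀ k : K, k ≠ 1 →
      ∑ i : S, Complex.normSq (μ i (k : N)) ≤ (Nat.card A : ℝ) - 1 := by
    intro k hk
    have h1 := sum_irr_mul_conj_of_isConj (IsConj.refl ((k : N) : G))
    rw [show Subgroup.centralizer ({((k : N) : G)} : Set G) = A from
      centralizer_cA h hTI (show ((k : N) : G) ∈ cA G x from k.2)
        fun e => hk (Subtype.ext (Subtype.ext e))] at h1
    simp only [Complex.mul_conj] at h1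
    have h2 : ∑ χ : IrrCharacter G, Complex.normSq ((χ : G → ℂ) (k : N)) = (Nat.card A : ℝ) := by
      exact_mod_cast h1
    set one' : IrrCharacter G := ⟨_, isIrr_one⟩ with hone'
    set T : Finset (IrrCharacter G) :=
      (Finset.univ : Finset S).image (fun i => (⟨μ i, hμ i⟩ : IrrCharacter G)) with hT
    have hnot : one' ∉ T := by
      intro hm
      obtain ⟨i, -, e⟩ := Finset.mem_image.1 hm
      exact hne1μ i (congrArg Subtype.val e)
    have h3 := Finset.sum_le_sum_of_subset_of_nonneg (Finset.subset_univ (insert one' T))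
      fun χ _ _ => Complex.normSq_nonneg ((χ : G → ℂ) ((k : N) : G))
    rw [h2, Finset.sum_insert hnot, hT, Finset.sum_image fun a _ b _ e =>
      hμinj (congrArg Subtype.val e)] at h3
    simp only [hone', Complex.normSq_one] at h3
    linarith
  have hnorm2 : ∀ i : S,
      ∑ k : K, Complex.normSq ((i : N → ℂ) k) = (Nat.card A : ℝ) * r := by
    intro i
    have h1 := classInner_isIrr_self (hirr i)
    rw [classInner] at h1
    simp only [Complex.mul_conj] at h1
    have h2 : ∑ n : N, (Complex.normSq ((i : N → ℂ) n) : ℂ) = (Nat.card N : ℂ) := by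
      rwa [inv_mul_eq_one₀ natCard_ne_zero, eq_comm] at h1
    have h3 : ∑ n : N, Complex.normSq ((i : N → ℂ) n) = (Nat.card A : ℝ) * r := by
      rw [hcardN, Nat.cast_mul] at h2
      exact_mod_cast h2
    rw [← h3, ← Fintype.sum_subtype_add_sum_subtype (fun n => n ∈ K)
      (fun n : N => Complex.normSq ((i : N → ℂ) n)), Finset.sum_eq_zero
      (s := (Finset.univ : Finset {n // n ∉ K}))
      (fun n _ => by rw [hoff i n n.2, map_zero]), add_zero]
    exact Finset.sum_congr (by ext; simp) fun _ _ => rfl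
  have hrow : ∀ i : S, ∑ k ∈ (Finset.univ : Finset K).erase 1, Complex.normSq (μ i (k : N)) =
      (Nat.card A : ℝ) * r - (r : ℝ) ^ 2 + ((Nat.card A : ℝ) - 1) * (γz : ℝ) ^ 2 -
        2 * (εz : ℝ) * γz * r := by
    intro i
    have hsum0 : ∑ k : K, ((i : N → ℂ) k).re = 0 := by
      rw [← Complex.re_sum, hzero i, Complex.zero_re]
    have hexp : ∀ k ∈ (Finset.univ : Finset K).erase 1, Complex.normSq (μ i (k : N)) =
        Complex.normSq ((i : N → ℂ) k) + 2 * (εz : ℝ) * γz * ((i : N → ℂ) k).re +
          (γz : ℝ) ^ 2 := by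
      intro k hk
      rw [hres i k, if_neg (Finset.ne_of_mem_erase hk), add_zero]
      rcases hεz with rfl | rfl <;> simp [Complex.normSq_apply] <;> ring
    rw [Finset.sum_congr rfl hexp, Finset.sum_add_distrib, Finset.sum_add_distrib,
      Finset.sum_const, Finset.card_erase_of_mem (Finset.mem_univ _), Finset.card_univ,
      ← Nat.card_eq_fintype_card, hcardK, nsmul_eq_mul,
      Nat.cast_sub (Nat.one_le_iff_ne_zero.2 Nat.card_pos.ne'), ← Finset.mul_sum,
      Finset.sum_erase_eq_sub (Finset.mem_univ _), Finset.sum_erase_eq_sub (Finset.mem_univ _),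
      hnorm2 i, hsum0]
    simp only [OneMemClass.coe_one, hdeg i, Complex.normSq_natCast, Complex.natCast_re,
      Nat.cast_one]
    ring
  have hγ0 : γz = 0 := by
    refine correction_eq_zero hεz hr2 hbig he ?_
    have h1 : ∑ k ∈ (Finset.univ : Finset K).erase 1, ∑ i : S, Complex.normSq (μ i (k : N)) ≤
        ∑ _k ∈ (Finset.univ : Finset K).erase 1, ((Nat.card A : ℝ) - 1) :=
      Finset.sum_le_sum fun k hk => hcol k (Finset.ne_of_mem_erase hk)
    rw [Finset.sum_comm, Finset.sum_congr rfl fun i _ => hrow i, Finset.sum_const,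
      Finset.sum_const, Finset.card_univ, nsmul_eq_mul, nsmul_eq_mul,
      Finset.card_erase_of_mem (Finset.mem_univ _), Finset.card_univ,
      ← Nat.card_eq_fintype_card (α := K), hcardK, Nat.cast_sub (Nat.one_le_iff_ne_zero.2 Nat.card_pos.ne'), Nat.cast_one] at h1
    exact h1
  have hg0 : gz = 0 := by
    refine multiplicity_eq_zero (A := Nat.card A) (r := r) (e := Fintype.card S) (φ := φ) hεz hgz0 (by omega)
      hbig he (by rw [hφeq, hφz, hγ0, add_zero, mul_comm (Nat.card A : ℤ)]) ?_
    have h1 : ∀ χ : IrrCharacter G, ∃ d : ℕ, (χ : G → ℂ) 1 = d := fun χ =>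
      ⟨_, (exists_degree_pos χ.2).choose_spec.2⟩
    choose d hd using h1
    have h2 : ∑ χ : IrrCharacter G, d χ ^ 2 = Nat.card G := by
      have h3 := sum_degree_sq (G := G)
      simp only [hd] at h3
      exact_mod_cast h3
    rw [← hcardG, ← h2]
    have h4 := Finset.sum_le_sum_of_subset (f := fun χ => d χ ^ 2)
      (Finset.subset_univ ((Finset.univ : Finset S).image
        (fun i => (⟨μ i, hμ i⟩ : IrrCharacter G))))
    rw [Finset.sum_image fun a _ b _ e => hμinj (congrArg Subtype.val e)] at h4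
    have h5 : ∀ i : S, d ⟨μ i, hμ i⟩ = φ := by
      intro i
      have h6 := hd ⟨μ i, hμ i⟩
      simp only [hdegμ i, ← hφeq, Int.cast_natCast] at h6
      exact_mod_cast h6.symm
    simpa [h5, sq] using h4
  have hε1 : εz = 1 := by
    rcases hεz with e | e
    · exact e
    · exfalso
      rw [hγ0, hg0, e] at hφz
      omega
  have hfinal : ∀ (i : S) (k : K), μ i (k : N) = (i : N → ℂ) k := by
    intro i k
    rw [hres i k, hγ0, hg0, hε1]
    simp
  -- a character trivial on the involutions
  let E : Subgroup K :=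
    { carrier := {k | k * k = 1}
      one_mem' := mul_one 1
      mul_mem' := fun {a b} ha hb => by
        show a * b * (a * b) = 1
        rw [← mul_assoc, mul_assoc a b a, hKcomm b a, ← mul_assoc, ha, one_mul, hb]
      inv_mem' := fun {a} ha => by
        show a⁻¹ * a⁻¹ = 1
        rw [← mul_inv_rev, ha, inv_one] }
  haveI : E.Normal := ⟨fun k hk c => by rwa [hKcomm c k, mul_inv_cancel_right]⟩
  haveI : Fintype (K ⧸ E) := Fintype.ofFinite _
  set bK : K := ⟨⟨b, hAN hb⟩, hb⟩ with hbK
  obtain ⟨ψ, hψ⟩ : ∃ ψ : IrrCharacter (K ⧸ E),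
      (ψ : K ⧸ E → ℂ) (bK : K ⧸ E) ≠ (ψ : K ⧸ E → ℂ) 1 := by
    by_contra hcon
    push Not at hcon
    obtain ⟨c, hc⟩ := isConj_iff.1 (isConj_of_irr_eq hcon)
    have h1 : bK ∈ E := by
      rw [← QuotientGroup.eq_one_iff]
      have h2 : (bK : K ⧸ E) = c⁻¹ * 1 * c := by rw [← hc]; group
      rwa [mul_one, inv_mul_cancel] at h2
    exact hb2 (congrArg (fun k : K => ((k : N) : G)) (show bK * bK = 1 from h1))
  set lam : IrrCharacter K := ⟨fun k => (ψ : K ⧸ E → ℂ) (QuotientGroup.mk' E k),
    isIrr_comp _ (QuotientGroup.mk'_surjective E) ψ.2⟩ with hlamdef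
  have hlam : (lam : K → ℂ) ≠ fun _ => 1 := by
    intro e
    refine hψ ?_
    have h1 := congrFun e bK
    have h2 := congrFun e 1
    simp only [hlamdef, QuotientGroup.mk'_apply, QuotientGroup.mk_one] at h1 h2
    rw [h1, h2]
  set θ : S := ⟨_, hfib lam hlam⟩ with hθ
  have hθE : ∀ k ∈ E, (θ : N → ℂ) k = (θ : N → ℂ) (1 : K) := by
    intro k hk
    have hval : ∀ e ∈ E, (lam : K → ℂ) e = (lam : K → ℂ) 1 := by
      intro e he
      simp only [hlamdef, QuotientGroup.mk'_apply, QuotientGroup.mk_one,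
        (QuotientGroup.eq_one_iff e).2 he]
    simp only [hθ, OddOrderChar.indFun_normal_apply, OddOrderChar.conjBy_apply]
    congr 1
    refine Finset.sum_congr rfl fun n _ => ?_
    rw [hval _ (show (⟨n * (k : N) * n⁻¹, hKn.conj_mem _ k.2 n⟩ : K) ∈ E from ?_),
      hval _ (show (⟨n * ((1 : K) : N) * n⁻¹, hKn.conj_mem _ (1 : K).2 n⟩ : K) ∈ E from ?_)]
    · refine Subtype.ext (show n * ((1 : K) : N) * n⁻¹ * (n * ((1 : K) : N) * n⁻¹) = 1 from ?_)
      simp
    · refine Subtype.ext (show n * (k : N) * n⁻¹ * (n * (k : N) * n⁻¹) = 1 from ?_)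
      have hk' : (k : N) * k = 1 := congrArg Subtype.val (show k * k = 1 from hk)
      rw [show n * (k : N) * n⁻¹ * (n * (k : N) * n⁻¹) = n * ((k : N) * k) * n⁻¹ by group, hk']
      simp
  obtain ⟨M, hMn, hM⟩ := exists_kernel (isCharacter_of_isIrr (hμ θ))
  refine ⟨M, hMn, fun i hi hix => ?_, fun hle => ?_⟩
  · have hiK : (⟨i, hix⟩ : N) ∈ K := invol_mem h hi hix
    rw [hM]
    have h1 := hfinal θ ⟨_, hiK⟩
    have h2 := hfinal θ 1
    simp only [OneMemClass.coe_one] at h2
    rw [show μ θ i = (θ : N → ℂ) ⟨i, hix⟩ from h1, h2]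
    exact hθE ⟨_, hiK⟩ (Subtype.ext (Subtype.ext (mul_self_of_orderOf_two hi)))
  · have h1 : ∀ k : K, (θ : N → ℂ) k = (r : ℂ) := by
      intro k
      have h3 : μ θ ((k : N) : G) = μ θ 1 :=
        (hM _).1 (hle (show ((k : N) : G) ∈ cA G x from k.2))
      rw [← hfinal θ k, h3, ← hdeg θ]
      simpa using hfinal θ 1
    have h2 := hzero θ
    rw [Finset.sum_congr rfl (fun k _ => h1 k), Finset.sum_const, nsmul_eq_mul, mul_eq_zero,
      Finset.card_univ] at h2
    rcases h2 with h2 | h2
    · exact Fintype.card_ne_zero (α := K) (by exact_mod_cast h2)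
    · have : r = 0 := by exact_mod_cast h2
      omega

end CfsgLib.InvCentAbelian
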