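import Cfsg.Agent.InvCentAbelian.Basic

/-!
# Central quotients of odd order and the action of the centralizer of a subgroup
-/

set_option autoImplicit false
set_option linter.unusedSectionVars false
set_option linter.style.haveILetI false

namespace CfsgLib.InvCentAbelian

open CfsgLib.SEmbed CfsgLib.Small Subgroup

variable {G : Type*} [Group G] {Ω : Type*} [MulAction G Ω]

theorem center_le_cA (x : Ω) : Subgroup.center G ≤ cA G x := fun _ ha =>
  mem_cA_iff.2 fun i _ _ => Subgroup.mem_center_iff.1 ha i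

section quotient

variable [Finite G] (h : Setup G Ω) (Z : Subgroup G) [Z.Normal] (hc : Z ≤ Subgroup.center G)
  (hodd : Odd (Nat.card Z))

/-- The action of a central quotient. -/
@[reducible]
def quotAction : MulAction (G ⧸ Z) Ω :=
  MulAction.compHom Ω (QuotientGroup.lift Z (MulAction.toPermHom G Ω) fun z hz =>
    Equiv.Perm.ext fun w => cA_fix h (center_le_cA w (hc hz)))

theorem quotAction_mk (g : G) (w : Ω) :
    letI := quotAction h Z hc
    ((g : G ⧸ Z)) • w = g • w := rfl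

omit [Finite G] [Z.Normal] in
include hodd in
theorem eq_one_of_sq_mem {z : G} (hz : z ∈ Z) (h2 : z * z = 1) : z = 1 := by
  by_contra hne
  have h1 := hodd.of_dvd_nat (Subgroup.orderOf_dvd_natCard Z hz)
  rw [orderOf_eq_prime (by rw [sq]; exact h2) hne] at h1
  exact absurd h1 (by decide)

include hodd in
theorem orderOf_mk {i : G} (hi : orderOf i = 2) : orderOf (i : G ⧸ Z) = 2 := by
  refine orderOf_eq_prime ?_ fun h1 => ne_one_of_orderOf_two hi ?_
  · rw [← QuotientGroup.mk_pow, sq, mul_self_of_orderOf_two hi, QuotientGroup.mk_one]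
  · exact eq_one_of_sq_mem Z hodd ((QuotientGroup.eq_one_iff i).1 h1) (mul_self_of_orderOf_two hi)

include hc hodd in
theorem exists_invol_lift {q : G ⧸ Z} (hq : orderOf q = 2) :
    ∃ i : G, orderOf i = 2 ∧ (i : G ⧸ Z) = q := by
  obtain ⟨g, rfl⟩ := QuotientGroup.mk_surjective q
  have hg : g * g ∈ Z := by
    rw [← QuotientGroup.eq_one_iff, QuotientGroup.mk_mul]
    exact mul_self_of_orderOf_two hq
  set k := Nat.card Z with hk
  obtain ⟨n, hn⟩ := hodd
  have himg : ((g ^ k : G) : G ⧸ Z) = (g : G ⧸ Z) := by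
    rw [QuotientGroup.mk_pow, hn, pow_succ, pow_mul, sq, mul_self_of_orderOf_two hq, one_pow,
      one_mul]
  refine ⟨g ^ k, orderOf_eq_prime ?_ fun h1 => ne_one_of_orderOf_two hq ?_, himg⟩
  · rw [← pow_mul, mul_comm, pow_mul, sq]
    exact congrArg Subtype.val (pow_card_eq_one' (x := (⟨g * g, hg⟩ : Z)))
  · rw [← himg, h1, QuotientGroup.mk_one]

include hc hodd in
theorem invol_lift_unique {i j : G} (hi : orderOf i = 2) (hj : orderOf j = 2)
    (e : (i : G ⧸ Z) = j) : i = j := by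
  have hz : i⁻¹ * j ∈ Z := QuotientGroup.eq.1 e
  refine inv_mul_eq_one.1 (eq_one_of_sq_mem Z hodd hz ?_)
  have h1 : Commute (i⁻¹ * j) i := (Subgroup.mem_center_iff.1 (hc hz) i).symm
  have h2 : i * (i⁻¹ * j) = j := mul_inv_cancel_left i j
  calc i⁻¹ * j * (i⁻¹ * j) = i * i * (i⁻¹ * j * (i⁻¹ * j)) := by
        rw [mul_self_of_orderOf_two hi, one_mul]
    _ = i * (i⁻¹ * j) * (i * (i⁻¹ * j)) := (h1.mul_mul_mul_comm i _).symm
    _ = 1 := by rw [h2, mul_self_of_orderOf_two hj]

include h hc hodd in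
theorem Setup.quotient :
    letI := quotAction h Z hc
    Setup (G ⧸ Z) Ω := by
  letI := quotAction h Z hc
  have hlift : ∀ {q : G ⧸ Z}, orderOf q = 2 → ∃ i : G, orderOf i = 2 ∧ (i : G ⧸ Z) = q :=
    fun hq => exists_invol_lift Z hc hodd hq
  refine ⟨⟨fun q hq z w hz hw => ?_, fun q hq => ?_, fun z => ?_, fun z w => ?_⟩, h.nontriv,
    fun q hq => ?_, fun q p hq hp z hz hw => ?_, fun z => ?_⟩
  · obtain ⟨i, hi, rfl⟩ := hlift hq
    exact h.uf.unique i hi z w hz hw
  · obtain ⟨i, hi, rfl⟩ := hlift hq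
    exact h.uf.exists_fix i hi
  · obtain ⟨i, hi, hiz⟩ := exists_inv h z
    exact ⟨(i : G ⧸ Z), orderOf_mk Z hodd hi, hiz⟩
  · obtain ⟨g, hg⟩ := h.uf.transitive z w
    exact ⟨(g : G ⧸ Z), hg⟩
  · obtain ⟨i, hi, rfl⟩ := hlift hq
    haveI := h.abel i hi
    have hmem : ∀ g : G, (g : G ⧸ Z) ∈ Subgroup.centralizer ({(i : G ⧸ Z)} : Set (G ⧸ Z)) →
        g ∈ Subgroup.centralizer ({i} : Set G) := by
      intro g hg
      rw [mem_centralizer_singleton_iff] at hg ⊢
      refine mul_inv_eq_iff_eq_mul.1 (invol_lift_unique Z hc hodd ?_ hi ?_)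
      · rw [orderOf_conj_eq, hi]
      · rw [QuotientGroup.mk_mul, QuotientGroup.mk_mul, hg, QuotientGroup.mk_inv,
          mul_inv_cancel_right]
    refine ⟨⟨fun a b => Subtype.ext ?_⟩⟩
    obtain ⟨⟨g, hg⟩, ⟨k, hk⟩⟩ := a, b
    obtain ⟨g, rfl⟩ := QuotientGroup.mk_surjective g
    obtain ⟨k, rfl⟩ := QuotientGroup.mk_surjective k
    exact congrArg (fun x : G => (x : G ⧸ Z)) (congrArg Subtype.val (mul_comm'
      (⟨g, hmem g hg⟩ : Subgroup.centralizer ({i} : Set G)) ⟨k, hmem k hk⟩))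
  · obtain ⟨i, hi, rfl⟩ := hlift hq
    obtain ⟨j, hj, rfl⟩ := hlift hp
    exact (h.commute_same i j hi hj z hz hw).map (QuotientGroup.mk' Z)
  · refine (h.two_le z).trans (Nat.card_le_card_of_injective
      (fun i : invMap (G := G) z z => (⟨((i : G) : G ⧸ Z), orderOf_mk Z hodd i.2.1, i.2.2⟩ :
        invMap (G := G ⧸ Z) z z)) fun i j e => Subtype.ext ?_)
    exact invol_lift_unique Z hc hodd i.2.1 j.2.1 (congrArg Subtype.val e)

include h hc hodd in
theorem mem_cA_quotient {z : Ω} {g : G} :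
    letI := quotAction h Z hc
    (g : G ⧸ Z) ∈ cA (G ⧸ Z) z ↔ g ∈ cA G z := by
  letI := quotAction h Z hc
  rw [mem_cA_iff, mem_cA_iff]
  constructor
  · intro H i hi hiz
    have h1 := H (i : G ⧸ Z) (orderOf_mk Z hodd hi) hiz
    refine (mul_inv_eq_iff_eq_mul.1 (invol_lift_unique Z hc hodd ?_ hi ?_)).symm
    · rw [orderOf_conj_eq, hi]
    · rw [QuotientGroup.mk_mul, QuotientGroup.mk_mul, ← h1, QuotientGroup.mk_inv,
        mul_inv_cancel_right]
  · intro H q hq hqz
    obtain ⟨i, hi, rfl⟩ := exists_invol_lift Z hc hodd hq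
    rw [← QuotientGroup.mk_mul, ← QuotientGroup.mk_mul, H i hi hqz]

end quotient

/-- The centralizer of `R` acts on the points whose `cA` contains `R`. -/
@[reducible]
def centAction (R : Subgroup G) :
    MulAction (Subgroup.centralizer (R : Set G)) {z : Ω // R ≤ cA G z} where
  smul c z := ⟨(c : G) • z.1, fun a ha => by
    have h1 := conj_mem_cA (c : G) (z.2 ha)
    rwa [← Subgroup.mem_centralizer_iff.1 c.2 a ha, mul_inv_cancel_right] at h1⟩
  one_smul z := Subtype.ext (one_smul G z.1)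
  mul_smul c d z := Subtype.ext (mul_smul (c : G) (d : G) z.1)

end CfsgLib.InvCentAbelian
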