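import Cfsg.Agent.InvCentAbelian.Basic
import Cfsg.Agent.InvCentAbelian.OrbitCount

/-!
# The case of pairwise trivially intersecting `cA`

A two point stabilizer meets the two `cA`'s trivially, is abelian and inverted by the interchanging
involutions, and no non-identity element fixes three points: the point stabilizer is a Frobenius
group with kernel `cA`, which is regular on the other points.
-/

set_option autoImplicit false
set_option linter.unusedSectionVars false

namespace CfsgLib.InvCentAbelian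

open CfsgLib.SEmbed CfsgLib.Small Subgroup

variable (G : Type*) [Group G]

/-- The `cA`'s of different points meet trivially. -/
def TI (Ω : Type*) [MulAction G Ω] : Prop :=
  ∀ x y : Ω, x ≠ y → cA G x ⊓ cA G y = ⊥

variable {G} {Ω : Type*} [MulAction G Ω] [Finite G] (h : Setup G Ω) (hTI : TI G Ω)
include h

omit [Finite G] h in
theorem swap_conj_mem {x y : Ω} {v d : G} (hv : v ∈ invMap (G := G) x y) (hd : d ∈ pairStab G x y) :
    v * d * v⁻¹ ∈ pairStab G x y := by
  have hx := hv.2
  have hy := smul_back hv.1 hv.2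
  rw [inv_eq_self_of_orderOf_two hv.1]
  refine mem_pairStab.2 ⟨?_, ?_⟩
  · rw [mul_smul, mul_smul, hx, (mem_pairStab.1 hd).2, hy]
  · rw [mul_smul, mul_smul, hy, (mem_pairStab.1 hd).1, hx]

theorem pairStab_conj_invMap {x y : Ω} {d : G} (hd : d ∈ pairStab G x y) {v : G}
    (hv : v ∈ invMap (G := G) x y) : d * v * d⁻¹ ∈ invMap (G := G) x y := by
  refine ⟨by rw [orderOf_conj_eq, hv.1], ?_⟩
  rw [mul_smul, mul_smul, inv_smul_eq_iff.2 (mem_pairStab.1 hd).1.symm, hv.2, (mem_pairStab.1 hd).2]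

theorem pairStab_conj_invFix {x y : Ω} {d : G} (hd : d ∈ pairStab G x y) {v : G}
    (hv : v ∈ invMap (G := G) x x) : d * v * d⁻¹ ∈ invMap (G := G) x x := by
  refine ⟨by rw [orderOf_conj_eq, hv.1], ?_⟩
  rw [mul_smul, mul_smul, inv_smul_eq_iff.2 (mem_pairStab.1 hd).1.symm, hv.2, (mem_pairStab.1 hd).1]

/-- `|D| = r |D ∩ A|`. -/
theorem card_pairStab_eq {x y : Ω} (hxy : x ≠ y) :
    Nat.card (pairStab G x y) =
      Nat.card (invMap (G := G) x x) * Nat.card ↥(pairStab G x y ⊓ cA G x) := by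
  obtain ⟨s, hs, hsx⟩ := exists_inv h x
  rw [← centralizer_eq h hs hsx]
  exact card_eq_mul_of_transitive _ ⟨hs, hsx⟩
    (fun d hd => pairStab_conj_invFix h hd ⟨hs, hsx⟩)
    fun t ht => exists_conj_fix h.uf hxy ⟨hs, hsx⟩ ht

/-- `|D| = r |C_D(v)|` for an interchanging involution `v`. -/
theorem card_pairStab_eq' {x y : Ω} (hxy : x ≠ y) {v : G} (hv : v ∈ invMap (G := G) x y) :
    Nat.card (pairStab G x y) =
      Nat.card (invMap (G := G) x x) *
        Nat.card ↥(pairStab G x y ⊓ Subgroup.centralizer ({v} : Set G)) := by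
  rw [← card_invMap_eq h.uf hxy]
  exact card_eq_mul_of_transitive _ hv (fun d hd => pairStab_conj_invMap h hd hv)
    fun t ht => exists_conj_swap h.uf hxy hv ht

/-- The fixed point of an interchanging involution is a third point. -/
theorem swap_fix_ne {x y z : Ω} (hxy : x ≠ y) {v : G} (hv : v ∈ invMap (G := G) x y)
    (hz : v • z = z) : z ≠ x ∧ z ≠ y := by
  refine ⟨?_, ?_⟩
  · rintro rfl; exact hxy (hz.symm.trans hv.2)
  · rintro rfl; exact hxy ((smul_back hv.1 hv.2).symm.trans hz)

include hTI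

theorem eq_one_of_mem_two {x y : Ω} (hxy : x ≠ y) {a : G} (ha : a ∈ cA G x) (hb : a ∈ cA G y) :
    a = 1 :=
  Subgroup.mem_bot.1 (hTI x y hxy ▸ Subgroup.mem_inf.2 ⟨ha, hb⟩)

/-- A two point stabilizer meets `cA` trivially. -/
theorem inf_cA_eq_bot {x y : Ω} (hxy : x ≠ y) : pairStab G x y ⊓ cA G x = ⊥ := by
  classical
  by_contra hne
  set D := pairStab G x y with hD
  set r := Nat.card (invMap (G := G) x x) with hr
  set K := D ⊓ cA G x with hK
  have hm : 2 ≤ Nat.card K := by
    have h1 : Nat.card K ≠ 1 := fun h1 => hne (Subgroup.card_eq_one.1 h1)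
    have h2 : 0 < Nat.card K := Nat.card_pos
    omega
  have hKy : ∀ v ∈ invMap (G := G) x y, ∀ k ∈ K, v * k * v⁻¹ ∈ D ⊓ cA G y := fun v hv k hk =>
    ⟨swap_conj_mem hv hk.1, by simpa [hv.2] using conj_mem_cA v hk.2⟩
  have hcomm : ∀ k ∈ K, ∀ l ∈ D ⊓ cA G y, k * l = l * k := by
    intro k hk l hl
    have h1 : k * l * k⁻¹ * l⁻¹ = 1 := by
      refine eq_one_of_mem_two h hTI hxy ?_ ?_
      · rw [show k * l * k⁻¹ * l⁻¹ = k * (l * k⁻¹ * l⁻¹) by group]
        exact mul_mem hk.2 (conj_mem_cA_of_fix (mem_pairStab.1 hl.1).1 (inv_mem hk.2))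
      · exact mul_mem (conj_mem_cA_of_fix (mem_pairStab.1 hk.1).2 hl.2) (inv_mem hl.2)
    exact mul_inv_eq_iff_eq_mul.1 (mul_inv_eq_one.1 h1)
  -- `|K|² ≤ |D|`
  obtain ⟨v₀, hv₀⟩ := exists_swap h hxy
  have hmr : Nat.card K ≤ r := by
    let f : K × K → D := fun p => ⟨(p.1 : G) * (v₀ * (p.2 : G) * v₀⁻¹),
      mul_mem p.1.2.1 (hKy v₀ hv₀ _ p.2.2).1⟩
    have hf : Function.Injective f := by
      intro p q e
      have e' : (p.1 : G) * (v₀ * (p.2 : G) * v₀⁻¹) = (q.1 : G) * (v₀ * (q.2 : G) * v₀⁻¹) :=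
        congrArg Subtype.val e
      have h2 : (q.1 : G)⁻¹ * (p.1 : G) = v₀ * ((q.2 : G) * (p.2 : G)⁻¹) * v₀⁻¹ := by
        calc (q.1 : G)⁻¹ * (p.1 : G)
            = (q.1 : G)⁻¹ * ((p.1 : G) * (v₀ * (p.2 : G) * v₀⁻¹)) *
              (v₀ * (p.2 : G) * v₀⁻¹)⁻¹ := by group
          _ = _ := by rw [e']; group
      have h3 : (q.1 : G)⁻¹ * (p.1 : G) = 1 :=
        eq_one_of_mem_two h hTI hxy (mul_mem (inv_mem q.1.2.2) p.1.2.2)
          (h2 ▸ (hKy v₀ hv₀ _ (mul_mem q.2.2 (inv_mem p.2.2))).2)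
      have h4 : (p.1 : G) = q.1 := (inv_mul_eq_one.1 h3).symm
      rw [h4] at e'
      exact Prod.ext (Subtype.ext h4)
        (Subtype.ext (mul_left_cancel (mul_right_cancel (mul_left_cancel e'))))
    have h1 := Nat.card_le_card_of_injective f hf
    rw [Nat.card_prod, card_pairStab_eq h hxy] at h1
    exact Nat.le_of_mul_le_mul_right h1 (by omega)
  -- the subgroups `K`, `K'` and `C_D(v)` meet trivially in pairs
  let K1 := {k : K // k ≠ 1}
  let g : (invMap (G := G) x y ⊕ Fin 2) × K1 → {p : K × K // p ≠ (1, 1)} := fun p =>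
    match p.1 with
    | Sum.inr i => if i = 0 then ⟨(p.2.1, 1), fun e => p.2.2 (congrArg Prod.fst e)⟩
        else ⟨(1, p.2.1), fun e => p.2.2 (congrArg Prod.snd e)⟩
    | Sum.inl v => ⟨(p.2.1, ⟨v₀⁻¹ * ((v : G) * (p.2.1 : G) * (v : G)⁻¹) * v₀, by
        have h1 := hKy _ v.2 _ p.2.1.2
        have hb : v₀⁻¹ • y = x := by rw [inv_smul_eq_iff, hv₀.2]
        refine ⟨?_, ?_⟩
        · have h2 := swap_conj_mem hv₀ h1.1
          rwa [inv_eq_self_of_orderOf_two hv₀.1] at h2 ⊢
        · simpa [hb] using conj_mem_cA v₀⁻¹ h1.2⟩), fun e => p.2.2 (congrArg Prod.fst e)⟩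
  have hg : Function.Injective g := by
    rintro ⟨a, ⟨k, hk⟩⟩ ⟨b, ⟨l, hl⟩⟩ e
    rcases a with v | i <;> rcases b with w | j
    · simp only [g, Subtype.mk.injEq, Prod.mk.injEq] at e
      obtain ⟨rfl, e2⟩ := e
      have e3 : (v : G) * (k : G) * (v : G)⁻¹ = (w : G) * (k : G) * (w : G)⁻¹ :=
        mul_left_cancel (mul_right_cancel (congrArg Subtype.val e2))
      obtain ⟨z, hz⟩ := h.uf.exists_fix _ v.2.1
      obtain ⟨z', hz'⟩ := h.uf.exists_fix _ w.2.1
      have key : ∀ u : invMap (G := G) x y,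
          Commute ((k : G) * ((u : G) * (k : G) * (u : G)⁻¹)) (u : G) := fun u => by
        have hu : (u : G)⁻¹ = u := inv_eq_self_of_orderOf_two u.2.1
        have hu2 : (u : G) * u = 1 := mul_self_of_orderOf_two u.2.1
        have hc := hcomm _ k.2 _ (hKy _ u.2 _ k.2)
        rw [hu] at hc ⊢
        show (k : G) * ((u : G) * k * u) * u = u * ((k : G) * ((u : G) * k * u))
        conv_rhs => rw [hc]
        calc (k : G) * ((u : G) * k * u) * u = (k : G) * ((u : G) * k) * ((u : G) * u) := by group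
          _ = ((u : G) * u) * (k : G) * ((u : G) * k) := by rw [hu2, one_mul, mul_one]
          _ = (u : G) * ((u : G) * (k : G) * (u : G) * k) := by group
      have hvw : (v : G) = w := by
        have hne' : (k : G) * ((v : G) * (k : G) * (v : G)⁻¹) ≠ 1 := by
          intro h1
          refine hk (Subtype.ext (eq_one_of_mem_two h hTI hxy k.2.2 ?_))
          rw [eq_inv_of_mul_eq_one_left h1]
          exact inv_mem (hKy _ v.2 _ k.2).2
        have hzz : z = z' := by
          by_contra hzz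
          refine hne' (eq_one_of_mem_two h hTI hzz (mem_cA_of_commute h v.2.1 hz (key v)) ?_)
          rw [e3]
          exact mem_cA_of_commute h w.2.1 hz' (key w)
        subst hzz
        have hc := h.commute_same _ _ v.2.1 w.2.1 z hz hz'
        have hmem : (v : G) * w ∈ D := mem_pairStab.2
          ⟨by rw [mul_smul, w.2.2, smul_back v.2.1 v.2.2],
           by rw [mul_smul, smul_back w.2.1 w.2.2, v.2.2]⟩
        by_contra hvw
        have hord : orderOf ((v : G) * w) = 2 := by
          refine orderOf_eq_prime ?_ fun h1 => hvw ?_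
          · rw [sq, hc.symm.mul_mul_mul_comm, mul_self_of_orderOf_two v.2.1,
              mul_self_of_orderOf_two w.2.1, one_mul]
          · rw [← inv_eq_self_of_orderOf_two v.2.1, inv_eq_of_mul_eq_one_right h1]
        have := (odd_pairStab h.uf hxy).of_dvd_nat (Subgroup.orderOf_dvd_natCard _ hmem)
        rw [hord] at this
        exact absurd this (by decide)
      obtain rfl : v = w := Subtype.ext hvw
      rfl
    · exfalso
      simp only [g] at e
      split_ifs at e with hj <;> simp only [Subtype.mk.injEq, Prod.mk.injEq] at e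
      · refine hk (Subtype.ext ?_)
        have h1 := congrArg Subtype.val e.2
        simp only [OneMemClass.coe_one] at h1
        have h2 : (v : G) * (k : G) * (v : G)⁻¹ = 1 := by
          rw [← show v₀ * (v₀⁻¹ * ((v : G) * (k : G) * (v : G)⁻¹) * v₀) * v₀⁻¹ =
            (v : G) * (k : G) * (v : G)⁻¹ by group, h1]
          group
        rw [mul_inv_eq_one, mul_eq_left] at h2
        exact h2
      · exact hk e.1
    · exfalso
      simp only [g] at e
      split_ifs at e with hi <;> simp only [Subtype.mk.injEq, Prod.mk.injEq] at e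
      · refine hl (Subtype.ext ?_)
        have h1 := congrArg Subtype.val e.2.symm
        simp only [OneMemClass.coe_one] at h1
        have h2 : (w : G) * (l : G) * (w : G)⁻¹ = 1 := by
          rw [← show v₀ * (v₀⁻¹ * ((w : G) * (l : G) * (w : G)⁻¹) * v₀) * v₀⁻¹ =
            (w : G) * (l : G) * (w : G)⁻¹ by group, h1]
          group
        rw [mul_inv_eq_one, mul_eq_left] at h2
        exact h2
      · exact hl e.1.symm
    · simp only [g] at e
      fin_cases i <;> fin_cases j <;> simp at e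
      · simp [e]
      · exact absurd e.1 hk
      · exact absurd e.1.symm hl
      · simp [e]
  have h1 := Nat.card_le_card_of_injective g hg
  have hK1 : Nat.card K1 = Nat.card K - 1 := by
    show Nat.card ({k : K | k ≠ 1} : Set K) = _
    rw [Nat.card_coe_set_eq, show {k : K | k ≠ 1} = Set.univ \ {1} by ext; simp,
      Set.ncard_sdiff_singleton_of_mem (Set.mem_univ _), Set.ncard_univ]
  have hP1 : Nat.card {p : K × K // p ≠ (1, 1)} = Nat.card K * Nat.card K - 1 := by
    show Nat.card ({p : K × K | p ≠ (1, 1)} : Set (K × K)) = _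
    rw [Nat.card_coe_set_eq, show {p : K × K | p ≠ (1, 1)} = Set.univ \ {(1, 1)} by ext; simp,
      Set.ncard_sdiff_singleton_of_mem (Set.mem_univ _), Set.ncard_univ, Nat.card_prod]
  rw [Nat.card_prod, Nat.card_sum, Nat.card_fin, card_invMap_eq h.uf hxy, hK1, hP1, ← hr] at h1
  obtain ⟨m, hm'⟩ : ∃ m, Nat.card K = m + 2 := ⟨Nat.card K - 2, by omega⟩
  rw [hm'] at h1 hmr
  simp only [show m + 2 - 1 = m + 1 by omega] at h1
  rw [show (m + 2) * (m + 2) - 1 = (m + 1) * (m + 3) by
    have : (m + 2) * (m + 2) = (m + 1) * (m + 3) + 1 := by ring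
    omega] at h1
  have : r + 2 ≤ m + 3 := Nat.le_of_mul_le_mul_left (by linarith) (by omega : 0 < m + 1)
  omega

end CfsgLib.InvCentAbelian
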